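import Mathlib
import Cfsg.Agent.Lib.Char.SelfCentChars
import Cfsg.Agent.Lib.Char.SmallDegreeSection
import Cfsg.Agent.Lib.Block.OrderPrimeBase

/-!
A simple group of order `p q^b g₀` with `g₀ < p - 1`: an element of order `p` generates its
centralizer, as some character of the principal block has degree below `p`.
-/

set_option autoImplicit false
set_option linter.unusedSectionVars false

namespace Cfsg.Agent.Block.BTuan

open scoped ComplexConjugate
open Cfsg Cfsg.Agent.Block Cfsg.Agent.Char Cfsg.Agent.Char.BP Cfsg.Agent.Char.Spec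
  Cfsg.Agent.Char.DefectOne Cfsg.Agent.Char.SmallDeg Module

universe u

variable {G : Type u} [Group G] [Fintype G] [IsSimpleGroup G] {p : ℕ} [hp : Fact p.Prime]

/-- A character of degree below `p` not seeing a regular element next to the powers of `x` does
not see it at all. -/
theorem regular_eq_one {χ : IrrCharacter G} (hne : χ ≠ trivialIrr G)
    (hd : charDegree (χ : G → ℂ) < p) {x v : G} (hx : orderOf x = p) (hc : Commute x v)
    (hv : ¬ p ∣ orderOf v)
    (hval : ∀ i : ℕ, ¬ p ∣ i → (χ : G → ℂ) (x ^ i * v) = (χ : G → ℂ) (x ^ i)) : v = 1 := by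
  classical
  obtain ⟨n, ρ, hρ, hχ, hn, -⟩ := IsIrr.exists_rep χ.2
  have hnd : n = charDegree (χ : G → ℂ) :=
    Nat.cast_injective (R := ℂ) (hn.symm.trans (charDeg_spec' χ))
  set k := orderOf v with hk
  have hcop : Nat.Coprime p k := hp.out.coprime_iff_not_dvd.2 hv
  set z := x * v with hz
  have hzo : orderOf z = p * k := by
    rw [hz, hc.orderOf_mul_eq_mul_orderOf_of_coprime (by rwa [hx]), hx]
  obtain ⟨A, hA1, hA2⟩ := Nat.chineseRemainder hcop 1 0
  obtain ⟨B, hB1, hB2⟩ := Nat.chineseRemainder hcop 0 1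
  have hzA : z ^ A = x := by
    rw [hz, hc.mul_pow, pow_eq_pow_iff_modEq.2 (show A ≡ 1 [MOD orderOf x] by rwa [hx]),
      pow_eq_pow_iff_modEq.2 (show A ≡ 0 [MOD orderOf v] from hA2), pow_one, pow_zero, mul_one]
  have hzB : z ^ B = v := by
    rw [hz, hc.mul_pow, pow_eq_pow_iff_modEq.2 (show B ≡ 0 [MOD orderOf x] by rwa [hx]),
      pow_eq_pow_iff_modEq.2 (show B ≡ 1 [MOD orderOf v] from hB2), pow_one, pow_zero, one_mul]
  obtain ⟨bb, c, -, hc', hkk⟩ := exists_rep_eigenbasis ρ z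
  choose j hj using fun a => exists_ψc (p := p) (z := c a ^ A) (by
    rw [← pow_mul]
    have hdvd : orderOf z ∣ A * p := by
      rw [hzo, mul_comm p]
      exact mul_dvd_mul_right (Nat.modEq_zero_iff_dvd.1 hA2) p
    obtain ⟨t, ht⟩ := hdvd
    rw [ht, pow_mul, hc', one_pow])
  set f : ZMod p → ℂ := fun l => ∑ a ∈ Finset.univ.filter (fun a => j a = l), c a ^ B with hf
  set g : ZMod p → ℂ := fun l => ((Finset.univ.filter fun a => j a = l).card : ℂ) with hg
  have hpow : ∀ (i : ZMod p) (a), c a ^ (A * i.val) = ψc (i * j a) := fun i a => by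
    rw [pow_mul, hj, ← AddChar.map_nsmul_eq_pow, nsmul_eq_mul, ZMod.natCast_zmod_val]
  have hF : ∀ i : ZMod p, (χ : G → ℂ) (x ^ i.val * v) = ∑ l, f l * ψc (i * l) := fun i => by
    rw [← hχ, show x ^ i.val * v = z ^ (A * i.val + B) by rw [pow_add, pow_mul, hzA, hzB], hkk,
      ← Finset.sum_fiberwise Finset.univ j]
    refine Finset.sum_congr rfl fun l _ => ?_
    rw [hf, Finset.sum_mul]
    refine Finset.sum_congr rfl fun a ha => ?_
    rw [pow_add, hpow, (Finset.mem_filter.1 ha).2, mul_comm]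
  have hG : ∀ i : ZMod p, (χ : G → ℂ) (x ^ i.val) = ∑ l, g l * ψc (i * l) := fun i => by
    rw [← hχ, show x ^ i.val = z ^ (A * i.val) by rw [pow_mul, hzA], hkk,
      ← Finset.sum_fiberwise Finset.univ j]
    refine Finset.sum_congr rfl fun l _ => ?_
    rw [Finset.sum_congr rfl (g := fun _ => ψc (i * l)) fun a ha => by
      rw [hpow, (Finset.mem_filter.1 ha).2], Finset.sum_const, nsmul_eq_mul]
  have hdiff : ∀ l, f l - g l = f 0 - g 0 := fun l => diff_eq (f := f) (g := g) (fun i hi => by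
    rw [← hF, ← hG]
    refine hval _ fun h => hi ?_
    rw [← ZMod.natCast_zmod_val i, (ZMod.natCast_eq_zero_iff _ _).2 h]) l
  obtain ⟨l₀, hl₀⟩ : ∃ l : ZMod p, (Finset.univ.filter fun a => j a = l) = ∅ := by
    by_contra hcon
    push Not at hcon
    have h1 : (Finset.univ : Finset (ZMod p)).card ≤
        (Finset.univ : Finset (Fin (finrank ℂ (Fin n → ℂ)))).card :=
      Finset.card_le_card_of_surjOn j fun l _ => by
        obtain ⟨a, ha⟩ := hcon l
        exact ⟨a, Finset.mem_coe.2 (Finset.mem_univ a), (Finset.mem_filter.1 ha).2⟩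
    rw [Finset.card_univ, ZMod.card, Finset.card_univ, Fintype.card_fin,
      Module.finrank_fin_fun] at h1
    omega
  have h0 : f 0 - g 0 = 0 := by
    rw [← hdiff l₀, hf, hg]
    simp only [hl₀, Finset.sum_empty, Finset.card_empty, Nat.cast_zero, sub_zero]
  refine OrdP.eq_one_of_value hne ?_
  have h1 := hF 0
  have h2 := hG 0
  rw [ZMod.val_zero, pow_zero, one_mul] at h1
  rw [ZMod.val_zero, pow_zero] at h2
  rw [h1, h2]
  exact Finset.sum_congr rfl fun l _ => by rw [sub_eq_zero.1 ((hdiff l).trans h0)]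

/-- An element generating its centralizer, and a character of small degree. -/
theorem exists_self {q b g₀ : ℕ} (hq : q.Prime) (hpq : p ≠ q) (hG : Nat.card G = p * q ^ b * g₀)
    (hg : g₀ < p - 1) :
    ∃ x : G, SCP.Hyp p x ∧ ∃ χ : IrrCharacter G, χ ≠ trivialIrr G ∧
      ¬ q ∣ charDegree (χ : G → ℂ) ∧ charDegree (χ : G → ℂ) ∣ g₀ := by
  classical
  have hp2 := hp.out.two_le
  have hg0 : 0 < g₀ := Nat.pos_of_ne_zero fun h => Nat.card_pos.ne' (by rw [hG, h, mul_zero])
  have hndvd : ¬ p ∣ q ^ b * g₀ := fun h => by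
    rcases hp.out.dvd_mul.1 h with h | h
    · exact hpq ((Nat.prime_dvd_prime_iff_eq hp.out hq).1 (hp.out.dvd_of_dvd_pow h))
    · have := Nat.le_of_dvd hg0 h
      omega
  have hfac : (Nat.card G).factorization p = 1 := by
    rw [hG, mul_assoc, Nat.factorization_mul hp.out.ne_zero (fun h => hndvd (by rw [h]; exact dvd_zero p)),
      Finsupp.add_apply, hp.out.factorization_self, Nat.factorization_eq_zero_of_not_dvd hndvd]
  obtain ⟨M, hM⟩ := exists_isPModular p hp.out
  have hd1 : charDegree (trivialIrr G : G → ℂ) = 1 := Nat.cast_injective (R := ℂ)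
    ((charDeg_spec' (trivialIrr G)).symm.trans (Nat.cast_one (R := ℂ)).symm)
  have hd0 : blockDefect p (principalBlock M G) ≠ 0 := by
    have h1 : sInf ((fun χ : IrrCharacter G => (charDegree (χ : G → ℂ)).factorization p) ''
        principalBlock M G) = 0 := Nat.eq_zero_of_le_zero (Nat.sInf_le ⟨trivialIrr G,
      trivial_mem_principalBlock hM, by simp [hd1]⟩)
    rw [blockDefect, h1, hfac]
    omega
  obtain ⟨P, -, -, -, u₀, hPp, hsyl, -, -, -, -, hu₀, hu₁⟩ :=
    exists_setup hM (isPBlock_principalBlock (M := M) (G := G)) hd0 hfac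
  have hPg : IsPGroup p P := IsPGroup.of_card (n := 1) (by rw [hPp, pow_one])
  set N := Subgroup.normalizer (P : Set G) with hN
  letI := Fintype.ofFinite (CG P)
  have hθ0 : trivialIrr (CG P) ∈ principalBlock M (CG P) := trivial_mem_principalBlock hM
  have hθP0 : ∀ x : CG P, (x : G) ∈ P → (trivialIrr (CG P) : CG P → ℂ) x =
      (trivialIrr (CG P) : CG P → ℂ) 1 := fun _ _ => rfl
  have haB0 : OfB p M (principalBlock M G) (⟨P, principalBlock M (CG P)⟩ : BrauerPairIdx G) :=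
    prPair_ofB hM hPg
  have hT0 : ∀ g : G, g ∈ N ↔ (g ∈ Subgroup.normalizer (P : Set G) ∧ ∀ c c' : CG P,
      (c' : G) = g * c * g⁻¹ → (trivialIrr (CG P) : CG P → ℂ) c' =
        (trivialIrr (CG P) : CG P → ℂ) c) :=
    fun g => ⟨fun h => ⟨h, fun c c' _ => rfl⟩, fun h => h.1⟩
  obtain ⟨R, X, y, c, ε, hD⟩ := exists_data hM hPp hsyl hθ0 hθP0 isPBlock_principalBlock
    haB0 hd0 hT0 hu₀ hu₁
  obtain ⟨hdX, hdY⟩ := degrees hM hPp hsyl hθ0 hθP0 haB0 hT0 hu₀ hu₁ hD
  have hθd : charDegree (trivialIrr (CG P) : CG P → ℂ) = 1 := Nat.cast_injective (R := ℂ)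
    ((charDeg_spec' (trivialIrr (CG P))).symm.trans (Nat.cast_one (R := ℂ)).symm)
  have hrel : N.relIndex N = 1 := Subgroup.relIndex_self N
  rw [hrel, hθd] at hdX hdY
  obtain ⟨-, hedvd, -⟩ := counts hD
  -- a member of degree prime to `q`
  obtain ⟨χ, hχB, hχ, hqd⟩ : ∃ χ ∈ principalBlock M G, χ ≠ trivialIrr G ∧
      ¬ q ∣ charDegree (χ : G → ℂ) := by
    by_contra hcon
    push Not at hcon
    have h1r : ¬ p ∣ orderOf (1 : G) := by rw [orderOf_one]; exact hp.out.not_dvd_one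
    have hz : ∀ χ : IrrCharacter G, χ ≠ trivialIrr G →
        χ ∈ principalBlock M G → (q : ℤ) ∣ (charDegree (χ : G → ℂ) : ℤ) := fun χ h1 h2 =>
      Int.natCast_dvd_natCast.2 (hcon χ h2 h1)
    have hsum : ∀ t, ∑ χ ∈ X, c χ * (charDegree (χ : G → ℂ) : ℤ) +
        ε * (charDegree (y t : G → ℂ) : ℤ) = 0 := fun t => by
      have h := hD.regular t 1 h1r
      simp only [charDeg_spec'] at h
      exact_mod_cast h
    have hBX : ∀ χ ∈ X, χ ∈ principalBlock M G := fun χ h => (hD.mem_iff χ).2 (Or.inl h)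
    have hBy : ∀ t, y t ∈ principalBlock M G := fun t => (hD.mem_iff _).2 (Or.inr ⟨t, rfl⟩)
    have hone : ∀ s : ℤ, s = 1 ∨ s = -1 → ¬ (q : ℤ) ∣ s := by
      intro s hs h
      have h1 : q ∣ 1 := Int.natCast_dvd_natCast.1 (by rcases hs with rfl | rfl <;> simpa using h)
      exact hq.not_dvd_one h1
    rcases (hD.mem_iff _).1 (trivial_mem_principalBlock hM) with h | ⟨t, ht⟩
    · set t₀ : (ZMod p)ˣ ⧸ R := ((1 : (ZMod p)ˣ) : (ZMod p)ˣ ⧸ R)
      have h0 := hsum t₀
      rw [← Finset.add_sum_erase _ _ h, hd1, Nat.cast_one, mul_one, add_assoc] at h0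
      refine hone _ (hD.c_sign _ h) ?_
      rw [eq_neg_of_add_eq_zero_left h0, dvd_neg]
      refine dvd_add (Finset.dvd_sum fun χ hχ => Dvd.dvd.mul_left (hz χ (Finset.ne_of_mem_erase hχ)
        (hBX χ (Finset.mem_of_mem_erase hχ))) _) (Dvd.dvd.mul_left (hz _ (fun e1 => ?_) (hBy _)) _)
      exact hD.disj t₀ (e1 ▸ h)
    · have h0 := hsum t
      rw [ht, hd1, Nat.cast_one, mul_one] at h0
      refine hone _ hD.ε_sign ?_
      rw [eq_neg_of_add_eq_zero_right h0, dvd_neg]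
      exact Finset.dvd_sum fun χ hχ => Dvd.dvd.mul_left (hz χ (fun e1 => hD.disj t
        (by rw [ht, ← e1]; exact hχ)) (hBX χ hχ)) _
  have hpd : ¬ p ∣ charDegree (χ : G → ℂ) := by
    intro h
    have h0 : (charDegree (χ : G → ℂ) : ℤ) ≡ 0 [ZMOD p] :=
      Int.modEq_zero_iff_dvd.2 (Int.natCast_dvd_natCast.2 h)
    rcases (hD.mem_iff χ).1 hχB with h1 | ⟨t, rfl⟩
    · have h2 := Int.modEq_zero_iff_dvd.1 ((hdX χ h1).symm.trans h0)
      rcases hD.c_sign χ h1 with e1 | e1 <;> rw [e1] at h2 <;>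
        exact hp.out.not_dvd_one (Int.natCast_dvd_natCast.1 (by simpa using h2))
    · have h2 := Int.modEq_zero_iff_dvd.1 ((hdY t).symm.trans h0)
      have h3 : p ∣ (CG P).relIndex N := Int.natCast_dvd_natCast.1 (by
        rcases hD.ε_sign with e1 | e1 <;> rw [e1] at h2 <;> simpa using h2)
      have h4 := Nat.le_of_dvd (by omega) (h3.trans hedvd)
      omega
  have hdvd : charDegree (χ : G → ℂ) ∣ g₀ := by
    have h1 := charDeg_dvd χ
    rw [hG, mul_assoc] at h1
    exact (Nat.Coprime.pow_right b (hq.coprime_iff_not_dvd.2 hqd).symm).dvd_of_dvd_mul_left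
      ((hp.out.coprime_iff_not_dvd.2 hpd).symm.dvd_of_dvd_mul_left h1)
  have hdlt : charDegree (χ : G → ℂ) < p := by
    have := Nat.le_of_dvd hg0 hdvd
    omega
  -- the regular elements of the centralizer are trivial
  have hord : orderOf u₀ = p := orderOf_gen hPp hu₀ hu₁
  have hreg : ∀ v ∈ CG P, ¬ p ∣ orderOf v → v = 1 := by
    intro v hv hvr
    have hvr' : ¬ p ∣ orderOf (⟨v, hv⟩ : CG P) := by rwa [Subgroup.orderOf_mk]
    have h1r : ¬ p ∣ orderOf (1 : CG P) := by rw [orderOf_one]; exact hp.out.not_dvd_one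
    refine regular_eq_one hχ hdlt hord (Subgroup.mem_centralizer_iff.1 hv u₀ hu₀) hvr fun i hi => ?_
    have hi0 : (i : ZMod p) ≠ 0 := fun h => hi ((ZMod.natCast_eq_zero_iff _ _).1 h)
    have hpw : pw u₀ (i : ZMod p) = u₀ ^ i := by
      rw [pw, ZMod.val_natCast, ← hord, pow_mod_orderOf]
    have key : ∀ w : CG P, ¬ p ∣ orderOf w → (χ : G → ℂ) (u₀ ^ i * (w : G)) =
        sct (χ : G → ℂ) (⟨P, principalBlock M (CG P)⟩ : BrauerPairIdx G) (pw u₀ (i : ZMod p)) w :=
      fun w hw => by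
        rw [hpw, ← value_principal hM hPp hχB (hpw ▸ pw_mem hPp hu₀ hu₁ _)
          (hpw ▸ pw_ne_one hPp hu₀ hu₁ hi0) w.2 (by rwa [Subgroup.orderOf_coe])]
    have k1 := key ⟨v, hv⟩ hvr'
    have k2 := key 1 h1r
    rw [OneMemClass.coe_one, mul_one] at k2
    rw [show u₀ ^ i * v = u₀ ^ i * ((⟨v, hv⟩ : CG P) : G) from rfl, k1, k2]
    rcases (hD.mem_iff χ).1 hχB with h1 | ⟨t, rfl⟩
    · have e1 := hD.sct_X χ h1 _ hi0 ⟨v, hv⟩ hvr'
      have e2 := hD.sct_X χ h1 _ hi0 1 h1r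
      rw [OneMemClass.coe_one] at e2
      rw [e1, e2]; rfl
    · have e1 := hD.sct_Y t _ hi0 ⟨v, hv⟩ hvr'
      have e2 := hD.sct_Y t _ hi0 1 h1r
      rw [OneMemClass.coe_one] at e2
      rw [e1, e2]; rfl
  have hCP : IsPGroup p (CG P) := by
    intro c
    obtain ⟨a, m, hm, he⟩ := Nat.exists_eq_pow_mul_and_not_dvd (orderOf_pos (c : G)).ne' p hp.out.ne_one
    refine ⟨a, Subtype.ext ?_⟩
    show (c : G) ^ p ^ a = 1
    refine hreg _ (pow_mem c.2 _) ?_
    rw [orderOf_pow' _ (pow_ne_zero _ hp.out.ne_zero), he, Nat.gcd_mul_right_left,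
      Nat.mul_div_cancel_left _ (pow_pos hp.out.pos a)]
    exact hm
  have hC : CG P = P := by
    obtain ⟨k, hk⟩ := IsPGroup.iff_card.1 hCP
    refine (Subgroup.eq_of_le_of_card_ge (le_cg hPp) ?_).symm
    have h1 := Subgroup.card_subgroup_dvd_card (CG P)
    rw [hk, hp.out.pow_dvd_iff_le_factorization Nat.card_pos.ne', hfac] at h1
    rw [hk, hPp]
    exact (Nat.pow_le_pow_right hp.out.pos h1).trans_eq (pow_one p)
  have hzp : Subgroup.zpowers u₀ = P := mem_zpowers_of_prime hPp hu₀ hu₁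
  refine ⟨u₀, ⟨hord, ?_⟩, χ, hχ, hqd, hdvd⟩
  have h1 : Subgroup.centralizer ((Subgroup.zpowers u₀ : Subgroup G) : Set G) =
      Subgroup.centralizer ({u₀} : Set G) := by
    rw [Subgroup.zpowers_eq_closure, Subgroup.centralizer_closure]
  rw [← h1, hzp]
  exact hC

end Cfsg.Agent.Block.BTuan
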