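import Mathlib
import Cfsg.Agent.Lib.Block.BrauerTuan.Self
import Cfsg.Agent.Lib.Block.QuaternionSylow
import Cfsg.Agent.Lib.Block.FewSylow.Basic
import Cfsg.Agent.S4503

/-!
Brauer-Tuan: basic facts, and the case of an exceptional character of degree `e`.
-/

set_option autoImplicit false
set_option linter.unusedSectionVars false

namespace Cfsg.Agent.Block.BTuan

open scoped ComplexConjugate
open Cfsg Cfsg.Agent.Block Cfsg.Agent.Char

universe u

variable {G : Type u} [Group G] [Fintype G] [IsSimpleGroup G] {p : ℕ} [hp : Fact p.Prime] {x : G}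

theorem deg_trivial : charDegree (trivialIrr G : G → ℂ) = 1 := Nat.cast_injective (R := ℂ)
  ((charDeg_spec' (trivialIrr G)).symm.trans (Nat.cast_one (R := ℂ)).symm)

theorem triv_apply (g : G) : ((trivialIrr G : IrrCharacter G) : G → ℂ) g = 1 := rfl

theorem no_normal_p (hna : ¬ IsMulCommutative G) (H : Subgroup G) (hH : H.Normal) :
    Nat.card H ≠ p := by
  intro hc
  rcases IsSimpleGroup.eq_bot_or_eq_top_of_normal H hH with h | h
  · rw [h, Subgroup.card_bot] at hc
    exact hp.out.ne_one hc.symm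
  · rw [h, Subgroup.card_top] at hc
    haveI : IsCyclic G := isCyclic_of_prime_card hc
    exact hna IsCyclic.isMulCommutative

theorem one_lt_e (hna : ¬ IsMulCommutative G) (h : SCP.Hyp p x) : 1 < SCP.e x := by
  have h1 : SCP.e x ∣ p - 1 := SCP.e_dvd h
  have h0 : SCP.e x ≠ 0 := fun e0 => by
    rw [e0, zero_dvd_iff] at h1
    have := hp.out.two_le
    omega
  by_contra hle
  obtain ⟨K, hK, hKp, hKi⟩ := SCP.exists_complement h (show SCP.e x = 1 by omega)
  rcases IsSimpleGroup.eq_bot_or_eq_top_of_normal K hK with e1 | e1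
  · rw [e1, Subgroup.index_bot] at hKi
    exact no_normal_p (p := p) hna ⊤ inferInstance (by rw [Subgroup.card_top, hKi])
  · rw [e1, Subgroup.index_top] at hKi
    exact hp.out.ne_one hKi.symm

/-- The order through the number of Sylow subgroups. -/
theorem exists_count (h : SCP.Hyp p x) :
    ∃ k : ℕ, Nat.card G = p * (SCP.e x * (k * p + 1)) := by
  obtain ⟨Q, hQ⟩ := SCP.exists_sylow h
  have h2 : (SCP.N x).index = Nat.card (Sylow p G) := by
    rw [Q.card_eq_index_normalizer, ← Sylow.coe_coe Q, hQ]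
  have h3 : Nat.card (Sylow p G) ≡ 1 [MOD p] := card_sylow_modEq_one p G
  refine ⟨Nat.card (Sylow p G) / p, ?_⟩
  have h4 := Nat.div_add_mod (Nat.card (Sylow p G)) p
  rw [h3, Nat.mod_eq_of_lt hp.out.one_lt] at h4
  rw [← Subgroup.card_mul_index (SCP.N x), SCP.card_N h, h2, mul_assoc, mul_comm _ p, h4]

/-- An element of the normalizer whose order is divisible by `e`. -/
theorem exists_cyclic (h : SCP.Hyp p x) : ∃ g : G, SCP.e x ∣ orderOf g := by
  haveI : IsCyclic (SCP.P x) := isCyclic_of_prime_card (SCP.card_P h)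
  let f : SCP.N x →* MulAut (SCP.P x) := (SCP.P x).normalizerMonoidHom
  have hker : f.ker = (SCP.P x).subgroupOf (SCP.N x) := by
    rw [Subgroup.normalizerMonoidHom_ker, SCP.cent_P h]
  have h1 : SCP.e x = Nat.card f.range := by
    rw [SCP.e, Subgroup.relIndex, ← hker, Subgroup.index_ker]
  haveI : IsCyclic (MulAut (SCP.P x)) := by
    have hc := SCP.card_P h
    haveI : Fact (Nat.card (SCP.P x)).Prime := ⟨hc.symm ▸ hp.out⟩
    exact isCyclic_of_surjective (IsCyclic.mulAutMulEquiv (SCP.P x)).symm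
      (MulEquiv.surjective _)
  obtain ⟨r, hr⟩ := IsCyclic.exists_ofOrder_eq_natCard (α := f.range)
  obtain ⟨m, hm⟩ := r.2
  refine ⟨(m : G), ?_⟩
  rw [h1, ← hr, ← Subgroup.orderOf_coe r, ← hm, Subgroup.orderOf_coe m]
  exact orderOf_map_dvd f m

/-- The index in the normalizer is odd: no element is conjugate to its inverse. -/
theorem not_real (h : SCP.Hyp p x) (hp2 : p ≠ 2) (he : Odd (SCP.e x)) : ¬ IsConj x x⁻¹ := by
  intro hc
  obtain ⟨c, hc⟩ := isConj_iff.1 hc
  have hcN : c ∈ SCP.N x := SCP.mem_N_of_conj h (Subgroup.mem_zpowers x) (SCP.ne_one h)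
    (by rw [hc]; exact inv_mem (Subgroup.mem_zpowers x))
  have hpow : ∀ k : ℕ, (Even k → c ^ k * x * (c ^ k)⁻¹ = x) ∧
      (Odd k → c ^ k * x * (c ^ k)⁻¹ = x⁻¹) := by
    intro k
    induction k with
    | zero => simp
    | succ k ih =>
      have e1 : c ^ (k + 1) * x * (c ^ (k + 1))⁻¹ = c * (c ^ k * x * (c ^ k)⁻¹) * c⁻¹ := by
        rw [pow_succ']; group
      refine ⟨fun hk => ?_, fun hk => ?_⟩
      · rw [e1, ih.2 (Nat.not_even_iff_odd.1 (Nat.even_add_one.1 hk)),
          show c * x⁻¹ * c⁻¹ = (c * x * c⁻¹)⁻¹ by group, hc, inv_inv]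
      · rw [e1, ih.1 (Nat.not_odd_iff_even.1 (Nat.odd_add_one.1 hk)), hc]
  have hodd : Odd (orderOf c) := by
    have h1 := Subgroup.orderOf_dvd_natCard _ hcN
    rw [SCP.card_N h] at h1
    exact ((hp.out.odd_of_ne_two hp2).mul he).of_dvd_nat h1
  have h2 := (hpow (orderOf c)).2 hodd
  rw [pow_orderOf_eq_one, one_mul, inv_one, mul_one] at h2
  have h3 : orderOf x ∣ 2 := orderOf_dvd_of_pow_eq_one (by
    rw [pow_two]; exact eq_inv_iff_mul_eq_one.1 h2)
  rw [h.ord] at h3
  exact hp2 ((Nat.prime_dvd_prime_iff_eq hp.out Nat.prime_two).1 h3)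

variable {X Y : Finset (IrrCharacter G)} {c : IrrCharacter G → ℤ} {ε : ℤ}

/-- The relation of the degrees. -/
theorem deg_rel {e : ℕ} (H : SCP.Chars p e X Y c ε) {ψ : IrrCharacter G} (hψ : ψ ∈ Y) :
    ∑ χ ∈ X, c χ * (charDegree (χ : G → ℂ) : ℤ) + ε * (charDegree (ψ : G → ℂ) : ℤ) = 0 := by
  have h := H.regular ψ hψ 1 (by rw [orderOf_one]; exact hp.out.not_dvd_one)
  simp only [charDeg_spec'] at h
  exact_mod_cast h

theorem c_trivial (h : SCP.Hyp p x) {e : ℕ} (H : SCP.Chars p e X Y c ε) (hX : trivialIrr G ∈ X) :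
    c (trivialIrr G) = -1 := by
  have h1 := H.value _ hX x h.ord
  have h2 : ((c (trivialIrr G) : ℤ) : ℂ) = ((-1 : ℤ) : ℂ) := by
    rw [triv_apply] at h1
    push_cast
    linear_combination h1
  exact_mod_cast h2

/-- A non-trivial constant member has degree congruent to a sign, hence at least `p - 1`. -/
theorem X_deg_ge (hna : ¬ IsMulCommutative G) {e : ℕ} (H : SCP.Chars p e X Y c ε)
    {χ : IrrCharacter G} (hχ : χ ∈ X) (hne : χ ≠ trivialIrr G) :
    (c χ = 1 ∧ p ≤ charDegree (χ : G → ℂ) + 1) ∨ (c χ = -1 ∧ p + 1 ≤ charDegree (χ : G → ℂ)) := by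
  have h2 := OrdP.two_le_deg hna hne
  obtain ⟨k, hk⟩ := (H.deg_X χ hχ).dvd
  rcases H.c_sign χ hχ with e1 | e1 <;> rw [e1] at hk
  · left
    refine ⟨e1, ?_⟩
    have h3 : (p : ℤ) ∣ (charDegree (χ : G → ℂ) : ℤ) + 1 := ⟨-k, by linear_combination -hk⟩
    have := Int.le_of_dvd (by positivity) h3
    omega
  · right
    refine ⟨e1, ?_⟩
    have h3 : (p : ℤ) ∣ (charDegree (χ : G → ℂ) : ℤ) - 1 := ⟨-k, by linear_combination -hk⟩
    have := Int.le_of_dvd (by omega) h3
    omega

/-- A character of small degree is exceptional; all exceptional characters share the degree. -/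
theorem small_mem_Y (hna : ¬ IsMulCommutative G) {e : ℕ} (H : SCP.Chars p e X Y c ε)
    {ψ : IrrCharacter G} (hne : ψ ≠ trivialIrr G) (hd : charDegree (ψ : G → ℂ) + 1 < p) :
    ψ ∈ Y := by
  have h0 := charDeg_pos ψ
  refine (Finset.mem_union.1 (show ψ ∈ X ∪ Y by
    by_contra hc
    have := Nat.le_of_dvd h0 (H.dvd_deg ψ hc)
    omega)).resolve_left fun h => ?_
  rcases X_deg_ge hna H h hne with ⟨-, h1⟩ | ⟨-, h1⟩ <;> omega

theorem deg_Y_eq {e : ℕ} (H : SCP.Chars p e X Y c ε) {ψ θ : IrrCharacter G} (hψ : ψ ∈ Y)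
    (hθ : θ ∈ Y) : charDegree (θ : G → ℂ) = charDegree (ψ : G → ℂ) := by
  have h1 := deg_rel H hψ
  have h2 := deg_rel H hθ
  rcases H.ε_sign with e1 | e1 <;> rw [e1] at h1 h2 <;> omega

/-- The sum of the exceptional values at an element of order `p`, in terms of the sign. -/
theorem sum_Y_value (h : SCP.Hyp p x) {e d : ℕ} (H : SCP.Chars p e X Y c ε) (hd0 : 0 < d)
    (hY : ∀ ψ ∈ Y, charDegree (ψ : G → ℂ) = d) {g : G} (hg : orderOf g = p) :
    ∑ ψ ∈ Y, (ψ : G → ℂ) g = -(ε : ℂ) := by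
  classical
  obtain ⟨θ, hθ⟩ : Y.Nonempty := Finset.card_pos.1 (Nat.pos_of_ne_zero fun h0 => by
    have := H.card_Y
    rw [h0, zero_mul] at this
    have := hp.out.two_le
    omega)
  have hsum := regular_expansion (G := G) g
  rw [if_neg (SCP.ne_one (SCP.hyp_of_ord h hg)),
    ← Finset.sum_subset (Finset.subset_univ (X ∪ Y)) (fun ψ _ hψ => by
      rw [H.vanish ψ hψ g hg, mul_zero]),
    Finset.sum_union H.disj, Finset.sum_congr rfl (s₁ := X)
      (g := fun χ => -(((c χ * (charDegree (χ : G → ℂ) : ℤ) : ℤ)) : ℂ)) (fun χ hχ => by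
        rw [H.value χ hχ g hg, charDeg_spec']; push_cast; ring),
    Finset.sum_congr rfl (s₁ := Y) (g := fun ψ => (d : ℂ) * (ψ : G → ℂ) g) (fun ψ hψ => by
        rw [charDeg_spec', hY ψ hψ]),
    Finset.sum_neg_distrib, ← Int.cast_sum, ← Finset.mul_sum] at hsum
  have h1 := deg_rel H hθ
  rw [hY θ hθ] at h1
  rw [eq_neg_of_add_eq_zero_left h1] at hsum
  push_cast at hsum
  refine mul_left_cancel₀ (show (d : ℂ) ≠ 0 from Nat.cast_ne_zero.2 hd0.ne') ?_
  linear_combination hsum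

/-- The norm of the exceptional values. -/
theorem sum_Y_norm (h : SCP.Hyp p x) {e : ℕ} (H : SCP.Chars p e X Y c ε) {g : G}
    (hg : orderOf g = p) :
    ∑ ψ ∈ Y, (ψ : G → ℂ) g * conj ((ψ : G → ℂ) g) = (p : ℂ) - e := by
  classical
  have hcol := sum_irr_mul_conj g g
  rw [if_pos (IsConj.refl g), Few.cent_card h hg,
    ← Finset.sum_subset (Finset.subset_univ (X ∪ Y)) (fun ψ _ hψ => by
      rw [H.vanish ψ hψ g hg, zero_mul]),
    Finset.sum_union H.disj, Finset.sum_congr rfl (s₁ := X) (g := fun _ => (1 : ℂ)) (fun χ hχ => by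
      rw [H.value χ hχ g hg]
      rcases H.c_sign χ hχ with e1 | e1 <;> simp [e1]),
    Finset.sum_const, H.card_X, nsmul_one] at hcol
  linear_combination hcol

/-- With `ε = 1` the exceptional degree is `e = 2 ^ (n - 1) - 1` and `p = 2 ^ n - 1`. -/
theorem plus_case (hna : ¬ IsMulCommutative G) (h : SCP.Hyp p x) {q b g₀ : ℕ} (hq : q.Prime)
    (hG : Nat.card G = p * q ^ b * g₀) (hg : g₀ < p - 1)
    (H : SCP.Chars p (SCP.e x) X Y c 1) {ψ : IrrCharacter G} (hψ : ψ ∈ Y)
    (hψne : ψ ≠ trivialIrr G) (hqψ : ¬ q ∣ charDegree (ψ : G → ℂ))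
    (hψg : charDegree (ψ : G → ℂ) ∣ g₀) :
    q = 2 ∧ g₀ = SCP.e x ∧ charDegree (ψ : G → ℂ) = SCP.e x ∧
      ∃ n : ℕ, 3 ≤ n ∧ p + 1 = 2 ^ n ∧ SCP.e x + 1 = 2 ^ (n - 1) := by
  classical
  set e := SCP.e x with hedef
  have he1 := one_lt_e hna h
  have hp2 := hp.out.two_le
  have hep : e ∣ p - 1 := SCP.e_dvd h
  have hg0 : 0 < g₀ := Nat.pos_of_ne_zero fun h0 => Nat.card_pos.ne' (by rw [hG, h0, mul_zero])
  set d := charDegree (ψ : G → ℂ) with hd
  have hdg := Nat.le_of_dvd hg0 hψg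
  have hep' := Nat.le_of_dvd (by omega) hep
  have hde : d = e := by
    obtain ⟨k, hk⟩ := (H.deg_Y ψ hψ).dvd
    rw [one_mul] at hk
    have h1 : (p : ℤ) ∣ (e : ℤ) - d := ⟨k, hk⟩
    have h2 := Int.eq_zero_of_abs_lt_dvd h1 (by rw [abs_lt]; constructor <;> omega)
    omega
  have hpe : p ≤ 2 * e + 1 := by
    rw [← hde, hd]
    refine Cfsg.Agent.S4503.result p hp.out (SCP.dvd_card h) ?_
      (fun H' hH' => no_normal_p hna H' hH') _ (irr_isChar ψ)
      (fun g hg' => OrdP.eq_one_of_value hψne hg')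
    rw [hp.out.pow_dvd_iff_le_factorization Nat.card_pos.ne', SCP.fac h]
    omega
  obtain ⟨t, ht⟩ := hep
  have ht2 : t = 2 := by
    rcases Nat.lt_trichotomy t 2 with hlt | rfl | hlt
    · interval_cases t <;> omega
    · rfl
    · have := Nat.mul_le_mul_left e hlt
      omega
  subst ht2
  have hge : g₀ = e := by
    obtain ⟨r, hr⟩ := hψg
    rw [hde] at hr
    rcases Nat.lt_trichotomy r 1 with hlt | rfl | hlt
    · obtain rfl : r = 0 := by omega
      omega
    · rw [hr, mul_one]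
    · have := Nat.mul_le_mul_left e hlt
      omega
  subst hge
  rw [hde] at hqψ
  have hp2' : p ≠ 2 := by omega
  -- the index is odd
  have hodd : Odd e := by
    by_contra hne
    rw [Nat.not_odd_iff_even] at hne
    have hq2 : q ≠ 2 := fun e2 => hqψ (e2 ▸ hne.two_dvd)
    obtain ⟨g, hge⟩ := exists_cyclic h
    set v := e.factorization 2
    have hv1 : 1 ≤ v := (Nat.prime_two.dvd_iff_one_le_factorization (by omega)).1 hne.two_dvd
    have hfac2 : (Nat.card G).factorization 2 = v := by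
      rw [hG, Nat.factorization_mul (mul_ne_zero hp.out.ne_zero (pow_ne_zero _ hq.ne_zero))
        (by omega), Nat.factorization_mul hp.out.ne_zero (pow_ne_zero _ hq.ne_zero),
        Finsupp.add_apply, Finsupp.add_apply, Nat.factorization_pow, Finsupp.smul_apply,
        hp.out.factorization, hq.factorization, Finsupp.single_eq_of_ne (Ne.symm hp2'),
        Finsupp.single_eq_of_ne (Ne.symm hq2)]
      simp [v]
    have hdvd2 : 2 ^ v ∣ orderOf g := (Nat.ordProj_dvd e 2).trans hge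
    have hgo : orderOf (g ^ (orderOf g / 2 ^ v)) = 2 ^ v :=
      orderOf_pow_orderOf_div (orderOf_pos g).ne' hdvd2
    obtain ⟨Q, hQ⟩ := (IsPGroup.of_card (n := v) (by rw [Nat.card_zpowers, hgo]) :
      IsPGroup 2 (Subgroup.zpowers (g ^ (orderOf g / 2 ^ v)))).exists_le_sylow
    haveI : Fact (Nat.Prime 2) := ⟨Nat.prime_two⟩
    have hQc : Nat.card (Q : Subgroup G) = 2 ^ v := by rw [Q.card_eq_multiplicity, hfac2]
    have hcyc : IsCyclic (Q : Subgroup G) := by
      rw [← Subgroup.eq_of_le_of_card_ge hQ (by rw [hQc, Nat.card_zpowers, hgo])]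
      infer_instance
    obtain ⟨K, hK, hK2, hKi⟩ := cyclic_two_complement Q hcyc
    rw [hQc] at hKi
    rcases IsSimpleGroup.eq_bot_or_eq_top_of_normal K hK with e1 | e1
    · rw [e1, Subgroup.index_bot] at hKi
      have := (SCP.dvd_card h)
      rw [hKi] at this
      exact hp2' ((Nat.prime_dvd_prime_iff_eq hp.out Nat.prime_two).1 (hp.out.dvd_of_dvd_pow this))
    · rw [e1, Subgroup.index_top] at hKi
      exact (Nat.one_lt_two_pow (by omega)).ne hKi
  have he3 : 3 ≤ e := by obtain ⟨r, hr⟩ := hodd; omega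
  -- the exceptional pair is complex conjugate
  have hYc : Y.card = 2 := by
    have h1 := H.card_Y
    rw [ht, mul_comm] at h1
    exact Nat.eq_of_mul_eq_mul_left (by omega) h1
  let ψ' : IrrCharacter G := ⟨fun g => conj ((ψ : G → ℂ) g), IsIrr.conj ψ.2⟩
  have hψ'v : ∀ g, (ψ' : G → ℂ) g = conj ((ψ : G → ℂ) g) := fun g => rfl
  have hψ'd : charDegree (ψ' : G → ℂ) = d := by
    apply Nat.cast_injective (R := ℂ)
    rw [← charDeg_spec', hψ'v, charDeg_spec', Complex.conj_natCast]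
  have hψ'ne : ψ' ≠ trivialIrr G := fun e1 => by
    rw [e1, deg_trivial] at hψ'd
    omega
  have hψ'Y : ψ' ∈ Y := small_mem_Y hna H hψ'ne (by omega)
  have hxr := not_real h hp2' hodd
  have hXY : ψ' ≠ ψ := by
    intro e1
    have hY : Y = insert ψ (Y.erase ψ) := (Finset.insert_erase hψ).symm
    obtain ⟨θ, hθ⟩ := Finset.card_eq_one.1
      (show (Y.erase ψ).card = 1 by rw [Finset.card_erase_of_mem hψ, hYc])
    have hθY : θ ∈ Y := Finset.mem_of_mem_erase (hθ ▸ Finset.mem_singleton_self θ)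
    have hθne : θ ≠ ψ := Finset.ne_of_mem_erase (hθ ▸ Finset.mem_singleton_self θ)
    have hθd : charDegree (θ : G → ℂ) = d := deg_Y_eq H hψ hθY
    let θ' : IrrCharacter G := ⟨fun g => conj ((θ : G → ℂ) g), IsIrr.conj θ.2⟩
    have hθ'd : charDegree (θ' : G → ℂ) = d := by
      apply Nat.cast_injective (R := ℂ)
      rw [← charDeg_spec', show (θ' : G → ℂ) 1 = conj ((θ : G → ℂ) 1) from rfl, charDeg_spec',
        Complex.conj_natCast, hθd]
    have hθ'ne : θ' ≠ trivialIrr G := fun e2 => by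
      rw [e2, deg_trivial] at hθ'd
      omega
    have hθ'Y := small_mem_Y hna H hθ'ne (by omega)
    rw [hY, hθ, Finset.mem_insert, Finset.mem_singleton] at hθ'Y
    have hθ' : θ' = θ := by
      refine hθ'Y.resolve_left fun e2 => hθne (Subtype.ext (funext fun g => ?_))
      have h2 : conj ((θ : G → ℂ) g) = (ψ : G → ℂ) g := congrFun (congrArg Subtype.val e2) g
      have h3 := congrFun (congrArg Subtype.val e1) g
      rw [hψ'v, ← h2, Complex.conj_conj] at h3
      rw [h3, h2]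
    have hreal : ∀ χ : IrrCharacter G, conj ((χ : G → ℂ) x) = (χ : G → ℂ) x := by
      intro χ
      by_cases hχ : χ ∈ X ∪ Y
      · rcases Finset.mem_union.1 hχ with hχ | hχ
        · rw [H.value χ hχ x h.ord, map_neg, map_intCast]
        · rw [hY, hθ, Finset.mem_insert, Finset.mem_singleton] at hχ
          rcases hχ with rfl | rfl
          · exact congrFun (congrArg Subtype.val e1) x
          · exact congrFun (congrArg Subtype.val hθ') x
      · rw [H.vanish χ hχ x h.ord, map_zero]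
    have hcol := sum_irr_mul_conj x x⁻¹
    rw [if_neg hxr] at hcol
    have hself := sum_irr_mul_conj x x
    rw [if_pos (IsConj.refl x), Few.cent_card h h.ord] at hself
    rw [Finset.sum_congr rfl fun χ _ => by rw [irr_apply_inv, Complex.conj_conj, ← hreal χ]] at hcol
    rw [Finset.sum_congr rfl fun χ _ => by rw [hreal χ, ← hreal χ], hcol] at hself
    exact hp.out.ne_zero (Nat.cast_injective (R := ℂ) (by rw [← hself, Nat.cast_zero]))
  have hY2 : Y = {ψ, ψ'} := (Finset.eq_of_subset_of_card_le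
    (Finset.insert_subset hψ (Finset.singleton_subset_iff.2 hψ'Y))
    (by rw [hYc, Finset.card_pair (Ne.symm hXY)])).symm
  have hS := sum_Y_value h H (by omega : 0 < d) (fun θ hθ => deg_Y_eq H hψ hθ) h.ord
  have hN := sum_Y_norm h H h.ord
  rw [hY2, Finset.sum_pair (Ne.symm hXY), hψ'v] at hS hN
  rw [Complex.conj_conj] at hN
  push_cast at hS
  -- the constituents of `ψ ψ̄`
  set F : G → ℂ := (ψ : G → ℂ) * fun g => conj ((ψ : G → ℂ) g) with hFdef
  obtain ⟨m, hm, hdec⟩ := IsChar.exists_decomp_inner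
    (IsChar.mul (irr_isChar ψ) (IsChar.conj (irr_isChar ψ)))
  have hFapply : ∀ g, F g = ∑ ξ : IrrCharacter G, (m ξ : ℂ) * (ξ : G → ℂ) g := fun g => by
    have := congrFun hdec g
    rw [sum_irr_apply] at this
    exact this
  have hm1 : m (trivialIrr G) = 1 := by
    apply Nat.cast_injective (R := ℂ)
    rw [← hm, Nat.cast_one, ← classInner_self_irr ψ.2]
    simp [classInner, trivialIrr]
  have hmψ : m ψ' = m ψ := by
    apply Nat.cast_injective (R := ℂ)
    rw [← hm, ← Complex.conj_natCast (m ψ), ← hm]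
    simp only [classInner, map_mul, map_inv₀, map_sum, Complex.conj_natCast, hψ'v, Complex.conj_conj,
      Pi.mul_apply]
    congr 1
    exact Finset.sum_congr rfl fun g _ => by ring
  have hτX : trivialIrr G ∈ X := (Finset.mem_union.1 H.trivial_mem).resolve_right fun hc => by
    rw [hY2, Finset.mem_insert, Finset.mem_singleton] at hc
    exact hc.elim (fun e1 => hψne e1.symm) fun e1 => hψ'ne e1.symm
  have hcτ := c_trivial h H hτX
  set X' := X.erase (trivialIrr G) with hX'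
  have hval : ∑ χ ∈ X', (m χ : ℤ) * (-c χ) * 2 - 2 * (m ψ : ℤ) + 2 = (e : ℤ) + 1 := by
    have h1 := hFapply x
    rw [← Finset.sum_subset (Finset.subset_univ (X ∪ Y)) (fun χ _ hχ => by
      rw [H.vanish χ hχ x h.ord, mul_zero]), Finset.sum_union H.disj,
      ← Finset.add_sum_erase X _ hτX, hY2, Finset.sum_pair (Ne.symm hXY), hm1, hmψ, hψ'v,
      Finset.sum_congr rfl (s₁ := X.erase _) (g := fun χ => (((m χ : ℤ) * (-c χ) : ℤ) : ℂ))
        (fun χ hχ => by
          rw [H.value χ (Finset.mem_of_mem_erase hχ) x h.ord]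
          push_cast
          ring), ← Int.cast_sum] at h1
    simp only [hFdef, Pi.mul_apply, triv_apply, Nat.cast_one, mul_one] at h1
    have h2 : ((∑ χ ∈ X', (m χ : ℤ) * (-c χ) * 2 - 2 * (m ψ : ℤ) + 2 : ℤ) : ℂ) =
        ((((p : ℤ) - e) : ℤ) : ℂ) := by
      rw [← Finset.sum_mul]
      push_cast
      rw [← hN]
      push_cast at h1
      linear_combination -2 * h1 - 2 * (m ψ : ℂ) * hS
    have h3 : ∑ χ ∈ X', (m χ : ℤ) * (-c χ) * 2 - 2 * (m ψ : ℤ) + 2 = (p : ℤ) - e := by
      exact_mod_cast h2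
    omega
  have hdeg : ∑ χ ∈ X', m χ * charDegree (χ : G → ℂ) + 1 ≤ e * e := by
    have h1 : (∑ ξ, m ξ * charDegree (ξ : G → ℂ)) = d * d := by
      apply Nat.cast_injective (R := ℂ)
      push_cast
      rw [show ((d : ℂ) * d) = F 1 by
        simp only [hFdef, Pi.mul_apply, charDeg_spec', Complex.conj_natCast]; rfl, hFapply]
      exact Finset.sum_congr rfl fun ξ _ => by rw [charDeg_spec']
    rw [← hde, ← h1, ← Finset.add_sum_erase _ _ (Finset.mem_univ (trivialIrr G)), hm1, deg_trivial,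
      add_comm _ 1]
    exact Nat.add_le_add_left (Finset.sum_le_sum_of_subset
      (Finset.erase_subset_erase _ (Finset.subset_univ X))) _
  -- a member of degree `p + 1`
  obtain ⟨χ, hχ, hχd⟩ : ∃ χ : IrrCharacter G, χ ≠ trivialIrr G ∧
      charDegree (χ : G → ℂ) = p + 1 := by
    set X1 := X'.filter (fun χ => c χ = -1) with hX1
    have hge : ∀ χ ∈ X1, p + 1 ≤ charDegree (χ : G → ℂ) := by
      intro χ hχ
      obtain ⟨h1, h2⟩ := Finset.mem_filter.1 hχ
      rcases X_deg_ge hna H (Finset.mem_of_mem_erase h1) (Finset.ne_of_mem_erase h1) with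
        ⟨h3, -⟩ | ⟨-, h3⟩
      · omega
      · exact h3
    have hsum : (e : ℤ) - 1 ≤ 2 * ∑ χ ∈ X1, (m χ : ℤ) := by
      have h1 : ∑ χ ∈ X', (m χ : ℤ) * (-c χ) * 2 ≤ 2 * ∑ χ ∈ X1, (m χ : ℤ) := by
        rw [hX1, Finset.sum_filter, Finset.mul_sum]
        refine Finset.sum_le_sum fun χ hχ => ?_
        rcases H.c_sign χ (Finset.mem_of_mem_erase hχ) with e1 | e1 <;> simp [e1]
        · linarith
      omega
    by_contra hcon
    push Not at hcon
    have hgt : ∀ χ ∈ X1, p + 2 ≤ charDegree (χ : G → ℂ) := fun χ hχ => by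
      have h1 := hge χ hχ
      have h2 := hcon χ (Finset.ne_of_mem_erase (Finset.mem_filter.1 hχ).1)
      omega
    have h2 : ∑ χ ∈ X1, (m χ : ℤ) * ((p : ℤ) + 2) ≤
        ((∑ χ ∈ X', m χ * charDegree (χ : G → ℂ) : ℕ) : ℤ) := by
      push_cast
      refine (Finset.sum_le_sum fun χ hχ => ?_).trans (Finset.sum_le_sum_of_subset_of_nonneg
        (Finset.filter_subset _ _) fun χ _ _ => by positivity)
      exact mul_le_mul_of_nonneg_left (by exact_mod_cast hgt χ hχ) (Nat.cast_nonneg _)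
    rw [← Finset.sum_mul] at h2
    have h3 : ((∑ χ ∈ X', m χ * charDegree (χ : G → ℂ) : ℕ) : ℤ) + 1 ≤ (e : ℤ) * e := by
      exact_mod_cast hdeg
    have h4 : (p : ℤ) = 2 * e + 1 := by omega
    have h5 : (3 : ℤ) ≤ e := by exact_mod_cast he3
    nlinarith
  have hdvdG : p + 1 ∣ q ^ b * e := by
    have h1 := charDeg_dvd χ
    rw [hχd, hG, mul_assoc] at h1
    exact (Nat.coprime_self_add_right.2 (Nat.coprime_one_right p)).symm.dvd_of_dvd_mul_left h1
  have hcop : Nat.Coprime (p + 1) e := by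
    rw [show p + 1 = 2 + 2 * e by omega, Nat.coprime_add_mul_right_left]
    exact Nat.coprime_two_left.2 hodd
  have hqb : p + 1 ∣ q ^ b := hcop.dvd_of_dvd_mul_right hdvdG
  obtain ⟨n, -, hn⟩ := (Nat.dvd_prime_pow hq).1 hqb
  have hn0 : n ≠ 0 := fun e0 => by rw [e0, pow_zero] at hn; omega
  have hq2 : q = 2 := by
    have h2 : 2 ∣ q ^ n := hn ▸ ⟨e + 1, by omega⟩
    exact ((Nat.prime_dvd_prime_iff_eq Nat.prime_two hq).1 (Nat.prime_two.dvd_of_dvd_pow h2)).symm
  subst hq2
  refine ⟨rfl, rfl, hde, n, ?_, hn, ?_⟩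
  · by_contra hlt
    have := Nat.pow_le_pow_right (show 0 < 2 by norm_num) (show n ≤ 2 by omega)
    omega
  · obtain ⟨r, rfl⟩ := Nat.exists_eq_succ_of_ne_zero hn0
    rw [pow_succ] at hn
    simp only [Nat.succ_sub_one]
    omega

end Cfsg.Agent.Block.BTuan
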