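import Mathlib
import Cfsg.Agent.Lib.Block.BrauerTuan.Plus

/-!
Brauer-Tuan: the case of an exceptional character of degree `p - e`.
-/

set_option autoImplicit false
set_option linter.unusedSectionVars false

namespace Cfsg.Agent.Block.BTuan

open scoped ComplexConjugate
open Cfsg Cfsg.Agent.Block Cfsg.Agent.Char

universe u

variable {G : Type u} [Group G] [Fintype G] [IsSimpleGroup G] {p : ℕ} [hp : Fact p.Prime] {x : G}
  {X Y : Finset (IrrCharacter G)} {c : IrrCharacter G → ℤ}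

/-- With `ε = -1` the index is a power of two, and either it is two or it is `(p - 1) / 2`. -/
theorem minus_case (hna : ¬ IsMulCommutative G) (h : SCP.Hyp p x) {q b g₀ : ℕ} (hq : q.Prime)
    (hpq : p ≠ q) (hG : Nat.card G = p * q ^ b * g₀) (hg : g₀ < p - 1)
    (H : SCP.Chars p (SCP.e x) X Y c (-1)) (hτX : trivialIrr G ∈ X)
    (hXq : ∀ χ ∈ X, χ ≠ trivialIrr G → q ∣ charDegree (χ : G → ℂ)) {ψ : IrrCharacter G}
    (hψ : ψ ∈ Y) (hψne : ψ ≠ trivialIrr G) (hqψ : ¬ q ∣ charDegree (ψ : G → ℂ))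
    (hψg : charDegree (ψ : G → ℂ) ∣ g₀) :
    q = 2 ∧ g₀ = charDegree (ψ : G → ℂ) ∧ charDegree (ψ : G → ℂ) + SCP.e x = p ∧
      ((∃ n : ℕ, 2 ≤ n ∧ p = 2 ^ n + 1 ∧ SCP.e x = 2 ^ (n - 1)) ∨
        (SCP.e x = 2 ∧ 7 ≤ p ∧
          ∃ χ : IrrCharacter G, χ ≠ trivialIrr G ∧ charDegree (χ : G → ℂ) + 1 = p)) := by
  classical
  set e := SCP.e x with hedef
  have he1 : 1 < e := one_lt_e hna h
  have hp2 := hp.out.two_le
  have hep : e ∣ p - 1 := SCP.e_dvd h
  have hep' := Nat.le_of_dvd (by omega) hep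
  have hg0 : 0 < g₀ := Nat.pos_of_ne_zero fun h0 => Nat.card_pos.ne' (by rw [hG, h0, mul_zero])
  set d := charDegree (ψ : G → ℂ) with hd
  have hdg := Nat.le_of_dvd hg0 hψg
  have hdpos : 0 < d := charDeg_pos ψ
  have hde : d + e = p := by
    obtain ⟨k, hk⟩ := (H.deg_Y ψ hψ).dvd
    have h1 : (p : ℤ) ∣ (d : ℤ) + e - p := ⟨-k - 1, by linear_combination -hk⟩
    have h2 := Int.eq_zero_of_abs_lt_dvd h1 (by rw [abs_lt]; constructor <;> omega)
    omega
  obtain ⟨t, ht⟩ := hep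
  have ht2 : 2 ≤ t := by
    by_contra hlt
    interval_cases t
    · omega
    · rw [mul_one] at ht
      have := OrdP.two_le_deg hna hψne
      omega
  have he2 : 2 * e + 1 ≤ p := by
    have := Nat.mul_le_mul_left e ht2
    omega
  have hg0d : g₀ = d := by
    obtain ⟨r, hr⟩ := hψg
    rcases Nat.lt_trichotomy r 1 with hlt | rfl | hlt
    · obtain rfl : r = 0 := by omega
      omega
    · rw [hr, mul_one]
    · have := Nat.mul_le_mul_left d hlt
      omega
  subst hg0d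
  have hcop : Nat.Coprime e d := by
    have h1 : Nat.Coprime e (d + e) := by
      rw [hde]
      exact (hp.out.coprime_iff_not_dvd.2 fun hd' => by
        have := Nat.le_of_dvd (by omega) hd'
        omega).symm
    exact Nat.coprime_add_self_right.1 h1
  obtain ⟨k, hk⟩ := exists_count h
  have heq : q ^ b * d = e * (k * p + 1) :=
    Nat.eq_of_mul_eq_mul_left hp.out.pos (by rw [← mul_assoc, ← hG, hk])
  obtain ⟨j, -, hj⟩ := (Nat.dvd_prime_pow hq).1
    (hcop.dvd_of_dvd_mul_right ⟨k * p + 1, heq⟩)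
  have hj0 : j ≠ 0 := fun e0 => by rw [e0, pow_zero] at hj; omega
  have hqe : q ∣ e := hj ▸ dvd_pow_self q hj0
  have hrel := deg_rel H hψ
  rw [← Finset.add_sum_erase _ _ hτX, c_trivial h H hτX, deg_trivial, Nat.cast_one, ← hd] at hrel
  set X' := X.erase (trivialIrr G) with hX'
  have hd1 : q ∣ d + 1 := by
    have h1 : (q : ℤ) ∣ ((d + 1 : ℕ) : ℤ) := by
      rw [show ((d + 1 : ℕ) : ℤ) = ∑ χ ∈ X', c χ * (charDegree (χ : G → ℂ) : ℤ) by
        push_cast; linear_combination -hrel]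
      exact Finset.dvd_sum fun χ hχ => Dvd.dvd.mul_left (Int.natCast_dvd_natCast.2
        (hXq χ (Finset.mem_of_mem_erase hχ) (Finset.ne_of_mem_erase hχ))) _
    exact Int.natCast_dvd_natCast.1 h1
  have hq2 : q = 2 := by
    have h1 : q ∣ p - 1 := ht ▸ hqe.mul_right t
    have h2 : q ∣ p + 1 := by
      have := Nat.dvd_add hd1 hqe
      rwa [show d + 1 + e = p + 1 by omega] at this
    have h3 : q ∣ 2 := by
      have := Nat.dvd_sub h2 h1
      rwa [show p + 1 - (p - 1) = 2 by omega] at this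
    exact (Nat.prime_dvd_prime_iff_eq hq Nat.prime_two).1 h3
  subst hq2
  refine ⟨rfl, rfl, hde, ?_⟩
  by_cases hj1 : j = 1
  · subst hj1
    rw [pow_one] at hj
    rw [hj] at hde ht he2 ⊢
    rcases Nat.lt_or_ge p 7 with hlt | hge
    · left
      have hp5 : p = 5 := by
        interval_cases p
        · rfl
        · exact absurd hp.out (by norm_num)
      exact ⟨2, le_rfl, by omega, by norm_num⟩
    · right
      refine ⟨rfl, hge, ?_⟩
      obtain ⟨χ, hχ⟩ := Finset.card_eq_one.1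
        (show X'.card = 1 by rw [Finset.card_erase_of_mem hτX, H.card_X, hj])
      have hmem : χ ∈ X' := hχ ▸ Finset.mem_singleton_self χ
      refine ⟨χ, Finset.ne_of_mem_erase hmem, ?_⟩
      rw [hχ, Finset.sum_singleton] at hrel
      rcases H.c_sign χ (Finset.mem_of_mem_erase hmem) with e1 | e1 <;> rw [e1] at hrel <;> omega
  left
  have h4 : 4 ∣ e := by
    rw [hj, show (4 : ℕ) = 2 ^ 2 by rfl]
    exact Nat.pow_dvd_pow 2 (by omega)
  obtain ⟨χ, hχ, h4χ⟩ : ∃ χ ∈ X', ¬ 4 ∣ charDegree (χ : G → ℂ) := by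
    by_contra hcon
    push Not at hcon
    have h1 : (4 : ℤ) ∣ ((d + 1 : ℕ) : ℤ) := by
      rw [show ((d + 1 : ℕ) : ℤ) = ∑ χ ∈ X', c χ * (charDegree (χ : G → ℂ) : ℤ) by
        push_cast; linear_combination -hrel]
      exact Finset.dvd_sum fun χ hχ => Dvd.dvd.mul_left
        (by exact_mod_cast hcon χ hχ) _
    have h2 : 4 ∣ d + 1 := by exact_mod_cast h1
    have h3 : 4 ∣ p - 1 := ht ▸ h4.mul_right t
    omega
  obtain ⟨hχne, hχX⟩ := Finset.mem_erase.1 hχ
  obtain ⟨d', hd'⟩ := hXq χ hχX hχne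
  have hd'odd : ¬ 2 ∣ d' := fun hh => h4χ (by rw [hd']; exact Nat.mul_dvd_mul_left 2 hh)
  have hdodd : ¬ 2 ∣ d := hqψ
  have hd'd : d' ∣ d := by
    have h1 := charDeg_dvd χ
    rw [hd', hG, mul_assoc] at h1
    have hpd' : Nat.Coprime d' p := (hp.out.coprime_iff_not_dvd.2 fun hh => by
      obtain ⟨l, hl⟩ := (H.deg_X χ hχX).dvd
      obtain ⟨w, hw⟩ := hh
      rw [hd', hw] at hl
      push_cast at hl
      have h5 : (p : ℤ) ∣ c χ := ⟨-(l + 2 * (w : ℤ)), by linear_combination -hl⟩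
      rcases H.c_sign χ hχX with e1 | e1 <;> rw [e1] at h5
      · exact hp.out.not_dvd_one (Int.natCast_dvd_natCast.1 h5)
      · exact hp.out.not_dvd_one (Int.natCast_dvd_natCast.1 (dvd_neg.1 h5))).symm
    have h2 : d' ∣ 2 ^ b * d :=
      hpd'.dvd_of_dvd_mul_left ((dvd_mul_left d' 2).trans h1)
    exact (((Nat.prime_two.coprime_iff_not_dvd.2 hd'odd).symm).pow_right b).dvd_of_dvd_mul_left h2
  have hd'le := Nat.le_of_dvd hdpos hd'd
  obtain ⟨l, hl⟩ := (H.deg_X χ hχX).dvd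
  rw [hd'] at hl
  push_cast at hl
  have hdd : d' = d := by
    obtain ⟨r, hr⟩ := hd'd
    rcases Nat.lt_trichotomy r 2 with hlt | rfl | hlt
    · interval_cases r
      · omega
      · rw [hr, mul_one]
    · exact absurd ⟨d', by rw [hr, mul_comm]⟩ hdodd
    · exfalso
      have h3 := Nat.mul_le_mul_left d' hlt
      rcases X_deg_ge hna H hχX hχne with ⟨-, hb⟩ | ⟨-, hb⟩ <;> rw [hd'] at hb <;> omega

  have hkey : 2 * d' = p + 1 := by
    rcases H.c_sign χ hχX with e1 | e1 <;> rw [e1] at hl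
    · have h5 : (p : ℤ) ∣ 2 * (d' : ℤ) + 1 - p := ⟨-l - 1, by linear_combination -hl⟩
      have h6 := Int.eq_zero_of_abs_lt_dvd h5 (by rw [abs_lt]; constructor <;> omega)
      omega
    · have h5 : (p : ℤ) ∣ 2 * (d' : ℤ) - 1 - p := ⟨-l - 1, by linear_combination -hl⟩
      have h6 := Int.eq_zero_of_abs_lt_dvd h5 (by rw [abs_lt]; constructor <;> omega)
      omega
  exact ⟨j + 1, by omega, by rw [pow_succ, ← hj]; omega, by rw [Nat.add_sub_cancel]; exact hj⟩

end Cfsg.Agent.Block.BTuan
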