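import Mathlib
import Cfsg.Agent.Lib.Block.BrauerTuan.Minus

/-!
Brauer-Tuan: the possible shapes of the principal block.
-/

set_option autoImplicit false
set_option linter.unusedSectionVars false

namespace Cfsg.Agent.Block.BTuan

open scoped ComplexConjugate
open Cfsg Cfsg.Agent.Block Cfsg.Agent.Char

universe u

variable {G : Type u} [Group G] [Fintype G] [IsSimpleGroup G] {p : ℕ} [hp : Fact p.Prime]

/-- The numbers of the two general cases: `p = 2 ^ n - 1` and `p = 2 ^ n + 1`. -/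
def IsAB (p n d e : ℕ) : Prop :=
  (3 ≤ n ∧ p + 1 = 2 ^ n ∧ d + 1 = 2 ^ (n - 1) ∧ e = d) ∨
    (2 ≤ n ∧ p = 2 ^ n + 1 ∧ d = 2 ^ (n - 1) + 1 ∧ e = 2 ^ (n - 1))

/-- What the principal block gives in the general case. -/
structure Blk (p n d : ℕ) (x : G) (X Y : Finset (IrrCharacter G)) (c : IrrCharacter G → ℤ)
    (ε : ℤ) : Prop where
  hx : SCP.Hyp p x
  ab : IsAB p n d (SCP.e x)
  chars : SCP.Chars p (SCP.e x) X Y c ε
  triv : trivialIrr G ∈ X
  evenX : ∀ χ ∈ X, χ ≠ trivialIrr G → 2 ∣ charDegree (χ : G → ℂ)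
  degY : ∀ ψ ∈ Y, charDegree (ψ : G → ℂ) = d

theorem cases_split (hna : ¬ IsMulCommutative G) {q b g₀ : ℕ} (hq : q.Prime) (hpq : p ≠ q)
    (hG : Nat.card G = p * q ^ b * g₀) (hg : g₀ < p - 1) :
    q = 2 ∧ ∃ x : G,
      (∃ (n : ℕ) (X Y : Finset (IrrCharacter G)) (c : IrrCharacter G → ℤ) (ε : ℤ),
        Blk p n g₀ x X Y c ε) ∨
      (SCP.Hyp p x ∧ SCP.e x = 2 ∧ 7 ≤ p ∧ g₀ + 2 = p ∧
        ∃ χ : IrrCharacter G, χ ≠ trivialIrr G ∧ charDegree (χ : G → ℂ) + 1 = p) := by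
  classical
  obtain ⟨x, h, ψ, hψne, hqψ, hψg⟩ := exists_self hq hpq hG hg
  obtain ⟨X, Y, c, ε, H⟩ := SCP.exists_chars h
  have hp2 := hp.out.two_le
  have hg0 : 0 < g₀ := Nat.pos_of_ne_zero fun h0 => Nat.card_pos.ne' (by rw [hG, h0, mul_zero])
  have hdg := Nat.le_of_dvd hg0 hψg
  have hψY : ψ ∈ Y := small_mem_Y hna H hψne (by omega)
  have h2le := OrdP.two_le_deg hna hψne
  have hτX : trivialIrr G ∈ X := (Finset.mem_union.1 H.trivial_mem).resolve_right fun hc => by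
    have := deg_Y_eq H hc hψY
    rw [deg_trivial] at this
    omega
  have hXq : ∀ χ ∈ X, χ ≠ trivialIrr G → q ∣ charDegree (χ : G → ℂ) := by
    intro χ hχ hne
    by_contra hnd
    have hge := X_deg_ge hna H hχ hne
    have hpd : ¬ p ∣ charDegree (χ : G → ℂ) := fun hd => by
      have h1 := (H.deg_X χ hχ).symm.trans
        (Int.modEq_zero_iff_dvd.2 (Int.natCast_dvd_natCast.2 hd))
      have h2 := Int.modEq_zero_iff_dvd.1 h1
      rcases H.c_sign χ hχ with e1 | e1 <;> rw [e1] at h2 <;>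
        exact hp.out.not_dvd_one (Int.natCast_dvd_natCast.1 (by simpa using h2))
    have h1 := charDeg_dvd χ
    rw [hG, mul_assoc] at h1
    have h2 := (Nat.Coprime.pow_right b (hq.coprime_iff_not_dvd.2 hnd).symm).dvd_of_dvd_mul_left
      ((hp.out.coprime_iff_not_dvd.2 hpd).symm.dvd_of_dvd_mul_left h1)
    have := Nat.le_of_dvd hg0 h2
    rcases hge with ⟨-, h3⟩ | ⟨-, h3⟩ <;> omega
  have hYd : ∀ θ ∈ Y, charDegree (θ : G → ℂ) = charDegree (ψ : G → ℂ) := fun θ hθ =>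
    deg_Y_eq H hψY hθ
  rcases H.ε_sign with e1 | e1 <;> subst e1
  · obtain ⟨hq2, hge, hde, n, hn3, hn, hn'⟩ := plus_case hna h hq hG hg H hψY hψne hqψ hψg
    subst hq2
    refine ⟨rfl, x, Or.inl ⟨n, X, Y, c, 1, h, Or.inl ⟨hn3, hn, ?_, hge.symm⟩, H, hτX, hXq,
      fun θ hθ => by rw [hYd θ hθ, hde, hge]⟩⟩
    rw [hge, hn']
  · obtain ⟨hq2, hge, hde, hcase⟩ := minus_case hna h hq hpq hG hg H hτX hXq hψY hψne hqψ hψg
    subst hq2
    refine ⟨rfl, x, ?_⟩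
    rcases hcase with ⟨n, hn2, hn, hn'⟩ | ⟨he, hp7, hχ⟩
    · refine Or.inl ⟨n, X, Y, c, -1, h, Or.inr ⟨hn2, hn, ?_, hn'⟩, H, hτX, hXq,
        fun θ hθ => by rw [hYd θ hθ, hge]⟩
      obtain ⟨r, rfl⟩ : ∃ r, n = r + 1 := ⟨n - 1, by omega⟩
      rw [Nat.add_sub_cancel] at hn' ⊢
      rw [pow_succ] at hn
      omega
    · exact Or.inr ⟨h, he, hp7, by omega, hχ⟩

end Cfsg.Agent.Block.BTuan
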