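import Mathlib
import Cfsg.Agent.Lib.Block.BrauerTuan.Cases
import Cfsg.Agent.Lib.Char.SmallDegreeCore
import Cfsg.Agent.Lib.Block.SmallPSL.Count

/-!
Brauer-Tuan, the general case: the power of two is `2 ^ n`. The principal block of `p` and that of
two share enough for a generalized character vanishing at the elements of even order.
-/

set_option autoImplicit false
set_option linter.unusedSectionVars false

namespace Cfsg.Agent.Block.BTuan

open scoped ComplexConjugate
open Cfsg Cfsg.Agent.Block Cfsg.Agent.Char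

universe u

variable {G : Type u} [Group G] [Fintype G] [IsSimpleGroup G] {p : ℕ} [hp : Fact p.Prime]

theorem isAB_facts {n d e : ℕ} (h : IsAB p n d e) :
    2 ≤ n ∧ 3 ≤ d ∧ ¬ 2 ∣ d ∧ 2 * e + 1 = p ∧ d < p ∧ 2 ^ (n - 1) < p ∧ p ≠ 2 := by
  rcases h with ⟨hn, hp1, hd, he⟩ | ⟨hn, hp1, hd, he⟩ <;>
    obtain ⟨r, rfl⟩ : ∃ r, n = r + 2 := ⟨n - 2, by omega⟩ <;>
    simp only [show r + 2 - 1 = r + 1 by omega] at * <;>
    rw [show 2 ^ (r + 2) = 4 * 2 ^ r by ring] at hp1 <;>
    rw [show 2 ^ (r + 1) = 2 * 2 ^ r by ring] at *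
  · have h2 : 2 ≤ 2 ^ r := Nat.le_self_pow (by omega) 2
    omega
  · have h1 : 1 ≤ 2 ^ r := Nat.one_le_two_pow
    omega

section

variable {x : G} {n d : ℕ} {X Y : Finset (IrrCharacter G)} {c : IrrCharacter G → ℤ} {ε : ℤ}

theorem two_mul_d (B : Blk p n d x X Y c ε) :
    ((2 : ZMod p) * (d : ZMod p) = 1 ∧ (2 : ZMod p) ^ n = -1 ∧ p = 2 ^ n + 1) ∨
      ((2 : ZMod p) * (d : ZMod p) = -1 ∧ (2 : ZMod p) ^ n = 1 ∧ p + 1 = 2 ^ n ∧ 3 ≤ n) := by
  have h0 : ((p : ℕ) : ZMod p) = 0 := ZMod.natCast_self p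
  rcases B.ab with ⟨hn, hp1, hd, he⟩ | ⟨hn, hp1, hd, he⟩ <;>
    obtain ⟨r, rfl⟩ : ∃ r, n = r + 1 := ⟨n - 1, by omega⟩ <;>
    simp only [Nat.add_sub_cancel] at hd
  · refine Or.inr ⟨?_, ?_, hp1, hn⟩
    · have h1 : 2 * d + 1 = p := by rw [pow_succ] at hp1; omega
      have h2 := congrArg (Nat.cast : ℕ → ZMod p) h1
      push_cast at h2
      rw [h0] at h2
      exact eq_neg_of_add_eq_zero_left h2
    · have h1 := congrArg (Nat.cast : ℕ → ZMod p) hp1
      push_cast at h1
      rw [h0, zero_add] at h1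
      exact h1.symm
  · refine Or.inl ⟨?_, ?_, hp1⟩
    · have h1 : 2 * d = p + 1 := by rw [pow_succ] at hp1; omega
      have h2 := congrArg (Nat.cast : ℕ → ZMod p) h1
      push_cast at h2
      rwa [h0, zero_add] at h2
    · have h1 := congrArg (Nat.cast : ℕ → ZMod p) hp1
      push_cast at h1
      rw [h0] at h1
      exact eq_neg_of_add_eq_zero_left h1.symm

/-- Small powers of two in `ZMod p`. -/
theorem two_pow_eq_natCast {i h : ℕ} (hi : 2 ^ i < p) (hh : h < p)
    (he : (h : ZMod p) = 2 ^ i) : h = 2 ^ i := by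
  have h1 : ((h : ℕ) : ZMod p) = ((2 ^ i : ℕ) : ZMod p) := by rw [he]; push_cast; rfl
  have h2 := (ZMod.natCast_eq_natCast_iff' _ _ _).1 h1
  rwa [Nat.mod_eq_of_lt hh, Nat.mod_eq_of_lt hi] at h2

/-- The exponent of two is a multiple of the order of two modulo `p`. -/
theorem exponent (B : Blk p n d x X Y c ε) (hna : ¬ IsMulCommutative G) {b : ℕ}
    (hcard : Nat.card G = p * (2 ^ b * d)) :
    1 ≤ b ∧ ((p = 2 ^ n + 1 ∧ ∃ k, b = n + 2 * n * k) ∨ (p + 1 = 2 ^ n ∧ 3 ≤ n ∧ ∃ k, b = n * (k + 1))) := by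
  classical
  obtain ⟨hn2, hd3, hdodd, hep, hdp, hlt, hp2⟩ := isAB_facts B.ab
  have hpow : ∀ i, i ≤ n - 1 → 2 ^ i < p := fun i hi =>
    (Nat.pow_le_pow_right two_pos hi).trans_lt hlt
  have he1 := one_lt_e hna B.hx
  have hb1 : 1 ≤ b := by
    obtain ⟨χ, hχ⟩ : (X.erase (trivialIrr G)).Nonempty := Finset.card_pos.1 (by
      rw [Finset.card_erase_of_mem B.triv, B.chars.card_X]; omega)
    by_contra hb
    have h1 := (B.evenX χ (Finset.mem_of_mem_erase hχ) (Finset.ne_of_mem_erase hχ)).trans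
      (charDeg_dvd χ)
    rw [hcard, show b = 0 by omega, pow_zero, one_mul] at h1
    rcases Nat.prime_two.dvd_mul.1 h1 with h2 | h2
    · exact hp2 ((Nat.prime_dvd_prime_iff_eq Nat.prime_two hp.out).1 h2).symm
    · exact hdodd h2
  refine ⟨hb1, ?_⟩
  obtain ⟨k, hk⟩ := exists_count B.hx
  have heq : 2 ^ b * d = SCP.e x * (k * p + 1) :=
    Nat.eq_of_mul_eq_mul_left hp.out.pos (by rw [← hcard, hk])
  have hcast : (2 : ZMod p) ^ b * (d : ZMod p) = (SCP.e x : ZMod p) := by
    have h1 := congrArg (Nat.cast : ℕ → ZMod p) heq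
    push_cast at h1
    rw [ZMod.natCast_self, mul_zero, zero_add, mul_one] at h1
    exact h1
  have h20 : (2 : ZMod p) ≠ 0 := by
    intro h
    have h1 : ((2 : ℕ) : ZMod p) = 0 := by exact_mod_cast h
    rw [ZMod.natCast_eq_zero_iff] at h1
    exact hp2 ((Nat.prime_dvd_prime_iff_eq hp.out Nat.prime_two).1 h1)
  rcases two_mul_d B with ⟨h2d, h2n, hpn⟩ | ⟨h2d, h2n, hpn, hn3⟩
  · left
    rcases B.ab with ⟨hn3, hp1, -, -⟩ | ⟨-, -, hd, he⟩
    · omega
    rw [he] at hcast
    push_cast at hcast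
    have hb : (2 : ZMod p) ^ b = 2 ^ n := by
      have h1 := congrArg (fun z => (2 : ZMod p) * z) hcast
      rw [← mul_assoc, mul_comm (2 : ZMod p) (2 ^ b), mul_assoc, h2d, mul_one, ← pow_succ',
        show n - 1 + 1 = n by omega] at h1
      exact h1
    have hbn : n ≤ b := by
      have h1 : Nat.Coprime (2 ^ (n - 1)) d :=
        ((Nat.prime_two.coprime_iff_not_dvd.2 hdodd)).pow_left _
      have h2 : n - 1 ≤ b := (Nat.pow_dvd_pow_iff_le_right (by norm_num : 1 < 2)).1
        (h1.dvd_of_dvd_mul_right ⟨k * p + 1, by rw [← he]; exact heq⟩)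
      by_contra hcon
      have h3 : b = n - 1 := by omega
      rw [h3, show (2 : ZMod p) ^ n = 2 ^ (n - 1) * 2 by rw [← pow_succ]; congr 1; omega] at hb
      have h4 : (1 : ZMod p) = 2 := mul_left_cancel₀ (pow_ne_zero (n - 1) h20) (by rw [mul_one]; exact hb)
      exact one_ne_zero (α := ZMod p) (by linear_combination -h4)
    refine ⟨hpn, (b - n) / (2 * n), ?_⟩
    have hm : (2 : ZMod p) ^ (b - n) = 1 := by
      refine mul_left_cancel₀ (pow_ne_zero n h20) ?_
      rw [mul_one, ← pow_add, Nat.add_sub_cancel' hbn, hb]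
    have hdm := Nat.div_add_mod (b - n) (2 * n)
    set r := (b - n) % (2 * n) with hr
    have hr2 : r < 2 * n := Nat.mod_lt _ (by omega)
    have h2r : (2 : ZMod p) ^ r = 1 := by
      rw [← hdm, pow_add, pow_mul, mul_comm 2 n, pow_mul, h2n] at hm
      simpa using hm
    have hr0 : r = 0 := by
      rcases Nat.lt_or_ge r n with hrn | hrn
      · have h1 := two_pow_eq_natCast (h := 1) (hpow r (by omega)) hp.out.one_lt
          (by rw [h2r, Nat.cast_one])
        exact (Nat.pow_eq_one.1 h1.symm).resolve_left (by norm_num)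
      · exfalso
        rw [← Nat.add_sub_cancel' hrn, pow_add, h2n, neg_one_mul, neg_eq_iff_eq_neg] at h2r
        have h1 := two_pow_eq_natCast (h := p - 1) (hpow (r - n) (by omega)) (by omega) (by
          rw [h2r, Nat.cast_sub hp.out.one_le, ZMod.natCast_self, Nat.cast_one, zero_sub])
        rw [hpn, Nat.add_sub_cancel] at h1
        have := Nat.pow_right_injective le_rfl h1
        omega
    omega
  · right
    rcases B.ab with ⟨-, -, hd, he⟩ | ⟨hn, hp1, -, -⟩
    swap
    · omega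
    rw [he] at hcast
    have hd0 : (d : ZMod p) ≠ 0 := fun h0 => by
      rw [h0, mul_zero] at h2d
      exact neg_ne_zero.2 one_ne_zero h2d.symm
    have hb : (2 : ZMod p) ^ b = 1 := mul_right_cancel₀ hd0 (by rw [one_mul]; exact hcast)
    have hdm := Nat.div_add_mod b n
    set r := b % n with hr
    have hrn : r < n := Nat.mod_lt _ (by omega)
    rw [← hdm, pow_add, pow_mul, h2n, one_pow, one_mul] at hb
    have h1 := two_pow_eq_natCast (h := 1) (hpow r (by omega)) hp.out.one_lt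
      (by rw [hb, Nat.cast_one])
    have hr0 : r = 0 := (Nat.pow_eq_one.1 h1.symm).resolve_left (by norm_num)
    refine ⟨hpn, hn3, b / n - 1, ?_⟩
    have : 1 ≤ b / n := by
      by_contra h0
      rw [Nat.lt_one_iff.1 (not_le.1 h0)] at hdm
      omega
    rw [Nat.sub_add_cancel this]
    omega

/-- The degrees of the constant members. -/
theorem X_shape (B : Blk p n d x X Y c ε) {b : ℕ} (hcard : Nat.card G = p * (2 ^ b * d))
    {χ : IrrCharacter G} (hχ : χ ∈ X) (hne : χ ≠ trivialIrr G) :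
    ∃ a : ℕ, 1 ≤ a ∧ ((charDegree (χ : G → ℂ) = 2 ^ a * d ∧ (a - 1) % n = 0) ∨
      (charDegree (χ : G → ℂ) = 2 ^ a ∧ (a - 1) % n = n - 1)) := by
  classical
  obtain ⟨hn2, hd3, hdodd, hep, hdp, hlt, hp2⟩ := isAB_facts B.ab
  obtain ⟨a, d', hd'odd, hdeg⟩ :=
    Nat.exists_eq_pow_mul_and_not_dvd (charDeg_pos χ).ne' 2 (by norm_num)
  have ha : 1 ≤ a := Nat.pos_of_ne_zero fun h0 => hd'odd (by
    have := B.evenX χ hχ hne
    rwa [hdeg, h0, pow_zero, one_mul] at this)
  have hcong : (charDegree (χ : G → ℂ) : ZMod p) = -(c χ : ZMod p) := by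
    have := (ZMod.intCast_eq_intCast_iff _ _ p).2 (B.chars.deg_X χ hχ)
    push_cast at this
    exact this
  have hc0 : (c χ : ZMod p) = 1 ∨ (c χ : ZMod p) = -1 := by
    rcases B.chars.c_sign χ hχ with e1 | e1 <;> simp [e1]
  have hd'd : d' ∣ d := by
    have hpd : ¬ p ∣ charDegree (χ : G → ℂ) := fun hd => by
      rw [(ZMod.natCast_eq_zero_iff _ _).2 hd, eq_comm, neg_eq_zero] at hcong
      rcases hc0 with e1 | e1 <;> rw [e1] at hcong <;> simp at hcong
    have h1 := charDeg_dvd χ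
    rw [hcard] at h1
    have h2 := (hp.out.coprime_iff_not_dvd.2 hpd).symm.dvd_of_dvd_mul_left h1
    exact (((Nat.prime_two.coprime_iff_not_dvd.2 hd'odd).symm).pow_right b).dvd_of_dvd_mul_left
      ((Dvd.intro_left _ hdeg.symm).trans h2)
  obtain ⟨h, hh⟩ := hd'd
  have hhodd : ¬ 2 ∣ h := fun h2 => hdodd (hh ▸ h2.mul_left d')
  have hd'0 : 0 < d' := Nat.pos_of_ne_zero fun h0 => hd'odd (by rw [h0]; exact dvd_zero 2)
  have hhd : h ≤ d := hh ▸ Nat.le_mul_of_pos_left h hd'0
  have h2a : (2 : ZMod p) ^ a * (d : ZMod p) = -(c χ : ZMod p) * (h : ZMod p) := by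
    rw [← hcong, hdeg, hh]
    push_cast
    ring
  set i := (a - 1) % n with hi
  have hin : i ≤ n - 1 := by
    have := Nat.mod_lt (a - 1) (show 0 < n by omega)
    omega
  have hkey : (h : ZMod p) = 2 ^ i ∨ (h : ZMod p) = -2 ^ i := by
    have hsplit : (2 : ZMod p) ^ a =
        (2 : ZMod p) * ((2 : ZMod p) ^ n) ^ ((a - 1) / n) * 2 ^ i := by
      rw [mul_assoc, ← pow_mul, ← pow_add, Nat.div_add_mod (a - 1) n, ← pow_succ']
      congr 1
      omega
    have hu : ∀ z : ZMod p, (z = 1 ∨ z = -1) → ∀ m : ℕ, z ^ m = 1 ∨ z ^ m = -1 := by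
      rintro z (rfl | rfl) m
      · exact Or.inl (one_pow m)
      · exact neg_one_pow_eq_or _ m
    have hw : (2 : ZMod p) ^ n = 1 ∨ (2 : ZMod p) ^ n = -1 := by
      rcases two_mul_d B with ⟨-, h1, -⟩ | ⟨-, h1, -, -⟩
      · exact Or.inr h1
      · exact Or.inl h1
    have h2d : (2 : ZMod p) * (d : ZMod p) = 1 ∨ (2 : ZMod p) * (d : ZMod p) = -1 := by
      rcases two_mul_d B with ⟨h1, -, -⟩ | ⟨h1, -, -, -⟩
      · exact Or.inl h1
      · exact Or.inr h1
    rw [hsplit, show (2 : ZMod p) * ((2 : ZMod p) ^ n) ^ ((a - 1) / n) * 2 ^ i * (d : ZMod p) =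
      (2 * (d : ZMod p)) * ((2 : ZMod p) ^ n) ^ ((a - 1) / n) * 2 ^ i by ring] at h2a
    rcases h2d with e1 | e1 <;> rcases hu _ hw ((a - 1) / n) with e2 | e2 <;>
      rcases hc0 with e3 | e3 <;> rw [e1, e2, e3] at h2a <;>
      first
        | exact Or.inl (by linear_combination h2a)
        | exact Or.inl (by linear_combination -h2a)
        | exact Or.inr (by linear_combination h2a)
        | exact Or.inr (by linear_combination -h2a)
  have hilt : 2 ^ i < p := (Nat.pow_le_pow_right two_pos hin).trans_lt hlt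
  refine ⟨a, ha, ?_⟩
  rcases hkey with e1 | e1
  · left
    have h1 := two_pow_eq_natCast hilt (by omega) e1
    have hi0 : i = 0 := by
      by_contra h0
      exact hhodd (h1 ▸ dvd_pow_self 2 h0)
    rw [hi0, pow_zero] at h1
    rw [h1, mul_one] at hh
    exact ⟨by rw [hdeg, hh], hi0⟩
  · right
    have h1 : h + 2 ^ i = p := by
      have h2 : p ∣ h + 2 ^ i := (ZMod.natCast_eq_zero_iff _ _).1 (by push_cast; rw [e1]; ring)
      obtain ⟨m, hm⟩ := h2
      have h3 : 0 < h + 2 ^ i := Nat.add_pos_right _ (Nat.two_pow_pos i)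
      rcases Nat.lt_trichotomy m 1 with hlt' | rfl | hlt'
      · obtain rfl : m = 0 := by omega
        omega
      · rw [hm, mul_one]
      · have := Nat.mul_le_mul_left p hlt'
        omega
    have hpd : p = 2 ^ (n - 1) + d := by
      rcases B.ab with ⟨hn, hp1, hd, -⟩ | ⟨hn, hp1, hd, -⟩ <;>
        rw [show 2 ^ n = 2 * 2 ^ (n - 1) by rw [← pow_succ']; congr 1; omega] at hp1 <;> omega
    have hi1 : i = n - 1 := by
      by_contra hne
      have := Nat.pow_lt_pow_right (show 1 < 2 by norm_num) (show i < n - 1 by omega)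
      omega
    rw [hi1] at h1
    have hhd2 : h = d := by omega
    rw [hhd2] at hh
    have hd'1 : d' = 1 := (Nat.mul_eq_right (by omega)).1 hh.symm
    exact ⟨by rw [hdeg, hd'1, mul_one], hi1⟩

/-- The elements of order `p`. -/
theorem card_A (B : Blk p n d x X Y c ε) :
    (Finset.univ.filter fun g : G => orderOf g = p).card * p = 2 * Nat.card G := by
  classical
  obtain ⟨-, -, -, hep, -, -, -⟩ := isAB_facts B.ab
  have h := B.hx
  have hCx := SmallPSL.card_conj_union (SCP.P x) fun a ha ha1 => SCP.cent_of_mem h ha ha1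
  rw [SCP.card_P h] at hCx
  have h1 : Nat.card {g : G // orderOf g = p} =
      Nat.card {g : G // g ≠ 1 ∧ ∃ c : G, c * g * c⁻¹ ∈ SCP.P x} := by
    refine Nat.card_congr (Equiv.subtypeEquivRight fun g => ⟨fun hg => ⟨fun e' => ?_,
      SCP.exists_conj_mem h hg⟩, ?_⟩)
    · rw [e', orderOf_one] at hg
      exact hp.out.one_lt.ne hg
    · rintro ⟨hg1, c', hc⟩
      have h1 := SCP.orderOf_of_mem h hc (fun e' => hg1 (conj_eq_one_iff.1 e'))
      rwa [← MulAut.conj_apply, MulEquiv.orderOf_eq] at h1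
  rw [← Fintype.card_subtype, ← Nat.card_eq_fintype_card, h1, hCx,
    ← Subgroup.card_mul_index (SCP.N x), SCP.card_N h, show p - 1 = 2 * SCP.e x by omega]
  ring

/-- An involution of odd class size. -/
theorem exists_central_involution {b : ℕ} (hb : 1 ≤ b) (hdvd : 2 ^ b ∣ Nat.card G) :
    ∃ z : G, orderOf z = 2 ∧ ¬ 2 ∣ (Subgroup.centralizer ({z} : Set G)).index := by
  classical
  haveI : Fact (Nat.Prime 2) := ⟨Nat.prime_two⟩
  obtain ⟨Q⟩ : Nonempty (Sylow 2 G) := inferInstance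
  have h2 : 2 ∣ Nat.card G := (dvd_pow_self 2 (by omega)).trans hdvd
  haveI : Nontrivial (Q : Subgroup G) := by
    rw [← Finite.one_lt_card_iff_nontrivial, Q.card_eq_multiplicity]
    exact Nat.one_lt_two_pow
      (Nat.one_le_iff_ne_zero.1 ((Nat.prime_two.dvd_iff_one_le_factorization Nat.card_pos.ne').1 h2))
  haveI := Q.isPGroup'.center_nontrivial
  have h2c : 2 ∣ Nat.card (Subgroup.center (Q : Subgroup G)) := by
    obtain ⟨k, hk⟩ := IsPGroup.iff_card.1 (Q.isPGroup'.to_subgroup (Subgroup.center (Q : Subgroup G)))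
    rw [hk]
    refine dvd_pow_self 2 fun h0 => ?_
    have := Finite.one_lt_card (α := Subgroup.center (Q : Subgroup G))
    rw [hk, h0, pow_zero] at this
    omega
  obtain ⟨w, hw⟩ := exists_prime_orderOf_dvd_card' 2 h2c
  refine ⟨((w : (Q : Subgroup G)) : G), by rw [Subgroup.orderOf_coe, Subgroup.orderOf_coe, hw], fun h => ?_⟩
  refine Q.not_dvd_index (h.trans (Subgroup.index_dvd_of_le fun y hy => ?_))
  rw [Subgroup.mem_centralizer_singleton_iff]
  exact congrArg Subtype.val (Subgroup.mem_center_iff.1 w.2 ⟨y, hy⟩)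

/-- The sums of the values at the elements of order `p`. -/
theorem sum_A (B : Blk p n d x X Y c ε) (hna : ¬ IsMulCommutative G) {ψ : IrrCharacter G} :
    (ψ ∈ X → 2 * ∑ g ∈ Finset.univ.filter (fun g : G => orderOf g = p), (ψ : G → ℂ) g =
      ((Finset.univ.filter fun g : G => orderOf g = p).card : ℂ) * ((-2 * c ψ : ℤ) : ℂ)) ∧
    (ψ ∈ Y → 2 * ∑ g ∈ Finset.univ.filter (fun g : G => orderOf g = p), (ψ : G → ℂ) g =
      ((Finset.univ.filter fun g : G => orderOf g = p).card : ℂ) * ((-ε : ℤ) : ℂ)) := by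
  classical
  obtain ⟨-, hd3, -, hep, -, -, -⟩ := isAB_facts B.ab
  set A := Finset.univ.filter fun g : G => orderOf g = p with hA
  refine ⟨fun hψ => ?_, fun hψ => ?_⟩
  · rw [Finset.sum_congr rfl (g := fun _ => -(c ψ : ℂ)) fun g hg =>
      B.chars.value ψ hψ g (Finset.mem_filter.1 hg).2, Finset.sum_const, nsmul_eq_mul]
    push_cast
    ring
  have hYc : Y.card = 2 := by
    have h1 := B.chars.card_Y
    rw [show p - 1 = 2 * SCP.e x by omega] at h1
    exact Nat.eq_of_mul_eq_mul_right (by have := one_lt_e hna B.hx; omega) h1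
  have hW : ∀ θ ∈ Y, ∑ g ∈ A, (θ : G → ℂ) g = ∑ g ∈ A, (ψ : G → ℂ) g := by
    intro θ hθ
    have h0 : ∀ φ ∈ Y, ∑ g : G, (φ : G → ℂ) g = 0 := by
      intro φ hφ
      have hne : (φ : G → ℂ) ≠ (trivialIrr G : G → ℂ) := fun e1 => by
        have h2 := B.degY φ hφ
        rw [Subtype.ext e1, deg_trivial] at h2
        omega
      have h1 := classInner_irr_ne φ.2 (trivialIrr G).2 hne
      rw [classInner, mul_eq_zero] at h1
      rcases h1 with h1 | h1
      · exact absurd h1 (inv_ne_zero (Nat.cast_ne_zero.2 Nat.card_pos.ne'))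
      · simpa [triv_apply] using h1
    have hreg : ∀ g ∈ (Finset.univ : Finset G) \ A, (θ : G → ℂ) g = (ψ : G → ℂ) g := by
      intro g hg
      have hg' : ¬ p ∣ orderOf g := fun hd => (Finset.mem_sdiff.1 hg).2
        (Finset.mem_filter.2 ⟨Finset.mem_univ _, Few.ord_eq_p B.hx hd⟩)
      have h1 := B.chars.regular θ hθ g hg'
      have h2 := B.chars.regular ψ hψ g hg'
      have h3 := add_left_cancel (h1.trans h2.symm)
      rcases B.chars.ε_sign with e1 | e1 <;> rw [e1] at h3 <;> simpa using h3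
    have e1 := h0 θ hθ
    have e2 := h0 ψ hψ
    rw [← Finset.sum_sdiff (Finset.subset_univ A), Finset.sum_congr rfl hreg] at e1
    rw [← Finset.sum_sdiff (Finset.subset_univ A)] at e2
    exact add_left_cancel (e1.trans e2.symm)
  have h1 : ∑ θ ∈ Y, ∑ g ∈ A, (θ : G → ℂ) g = (A.card : ℂ) * (-(ε : ℂ)) := by
    rw [Finset.sum_comm, Finset.sum_congr rfl (g := fun _ => -(ε : ℂ)) fun g hg =>
      sum_Y_value B.hx B.chars (by omega : 0 < d) B.degY (Finset.mem_filter.1 hg).2,
      Finset.sum_const, nsmul_eq_mul]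
  rw [Finset.sum_congr rfl hW, Finset.sum_const, hYc, nsmul_eq_mul] at h1
  push_cast
  exact h1

/-- A constant member of two-power degree is not in the principal block of two. -/
theorem pure_not_mem (hna : ¬ IsMulCommutative G) {M : Ideal AlgInt} (hM : IsPModular 2 M)
    {χ : IrrCharacter G} {a : ℕ} (ha : charDegree (χ : G → ℂ) = 2 ^ a)
    (hne : χ ≠ trivialIrr G) {z : G} (hz : orderOf z = 2)
    (hidx : ¬ 2 ∣ (Subgroup.centralizer ({z} : Set G)).index) :
    χ ∉ principalBlock M G := by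
  intro hmem
  have h0 : (χ : G → ℂ) z = 0 := by
    obtain ⟨m, ρ, hρ, hχ, hm, -⟩ := IsIrr.exists_rep χ.2
    have hmd : m = 2 ^ a := ha ▸
      Nat.cast_injective (R := ℂ) (hm.symm.trans (charDeg_spec' χ))
    have hcop : Nat.Coprime (Module.finrank ℂ (Fin m → ℂ))
        (Subgroup.centralizer ({z} : Set G)).index := by
      rw [Module.finrank_fin_fun, hmd]
      exact (Nat.prime_two.coprime_iff_not_dvd.2 hidx).pow_left a
    rcases character_eq_zero_or_norm_eq ρ z hcop with h1 | h1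
    · rw [← hχ]; exact h1
    · exfalso
      have hval : ‖ρ.character z‖ = (charDegree (χ : G → ℂ) : ℝ) :=
        h1.trans (by rw [Module.finrank_fin_fun, hmd, ← ha])
      have hcen := SmallDeg.center_of_norm (φ := χ)
        (fun g hg => OrdP.eq_one_of_value hne hg) (u := z) (by rw [hχ] at hval; exact hval)
      exact hna ⟨⟨comm_of_central_ne_one (fun e1 => by rw [e1, orderOf_one] at hz; omega) hcen⟩⟩
  have h1 : MemLocalIdeal M
      (centralChar (fun _ : G => (1 : ℂ)) z - centralChar (χ : G → ℂ) z) := hmem z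
  rw [centralChar, centralChar, h0, mul_one, div_one, mul_zero, zero_div, sub_zero,
    ideal_natCast_iff hM] at h1
  exact hidx h1

open Classical in
/-- The weights of the generalized character. -/
noncomputable def weight (X : Finset (IrrCharacter G)) (c : IrrCharacter G → ℤ) (ε : ℤ)
    (ψ : IrrCharacter G) : ℤ :=
  if ψ ∈ X then -2 * c ψ else -ε

theorem weight_X {ψ : IrrCharacter G} (h : ψ ∈ X) : weight X c ε ψ = -2 * c ψ := by
  rw [weight, if_pos h]

theorem weight_Y (B : Blk p n d x X Y c ε) {ψ : IrrCharacter G} (h : ψ ∈ Y) :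
    weight X c ε ψ = -ε := by
  rw [weight, if_neg (fun h' => Finset.disjoint_left.1 B.chars.disj h' h)]

/-- The generalized character at one: not zero, divisible by `2 ^ b`, and bounded. -/
theorem exists_F (B : Blk p n d x X Y c ε) (hna : ¬ IsMulCommutative G) {b : ℕ} (hb : 1 ≤ b)
    (hcard : Nat.card G = p * (2 ^ b * d)) :
    ∃ F1 : ℤ, F1 ≠ 0 ∧ (2 : ℤ) ^ b ∣ F1 ∧ 2 * (F1 * F1) ≤ (Nat.card G : ℤ) * p ∧
      |F1| ≤ 2 + 2 * (d : ℤ) + 2 * ∑ χ ∈ X.erase (trivialIrr G), (charDegree (χ : G → ℂ) : ℤ) := by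
  classical
  obtain ⟨hn2, hd3, hdodd, hep, hdp, -, hp2⟩ := isAB_facts B.ab
  have hp1 := hp.out.two_le
  have he1 := one_lt_e hna B.hx
  obtain ⟨M, hM⟩ := exists_isPModular 2 Nat.prime_two
  obtain ⟨z, hz, hidx⟩ := exists_central_involution hb
    (hcard ▸ (dvd_mul_right _ d).mul_left p)
  set S := (X ∪ Y).filter fun ψ => ψ ∈ principalBlock M G with hS
  set w := weight X c ε with hw
  set F : G → ℂ := fun g => ∑ ψ ∈ S, (w ψ : ℂ) * (ψ : G → ℂ) g with hF
  set A := Finset.univ.filter fun g : G => orderOf g = p with hA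
  have hApos : (A.card : ℂ) ≠ 0 := by
    rw [Nat.cast_ne_zero, ← Nat.pos_iff_ne_zero, Finset.card_pos]
    exact ⟨x, Finset.mem_filter.2 ⟨Finset.mem_univ _, B.hx.ord⟩⟩
  have hwA : ∀ ψ ∈ S, 2 * ∑ g ∈ A, (ψ : G → ℂ) g = (A.card : ℂ) * (w ψ : ℂ) := by
    intro ψ hψ
    rcases Finset.mem_union.1 (Finset.mem_filter.1 hψ).1 with h | h
    · rw [(sum_A B hna).1 h, hw, weight_X h]
    · rw [(sum_A B hna).2 h, hw, weight_Y B h]
  have htS : trivialIrr G ∈ S := Finset.mem_filter.2
    ⟨Finset.mem_union_left _ B.triv, trivial_mem_principalBlock hM⟩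
  have hwτ : w (trivialIrr G) = 2 := by
    rw [hw, weight_X B.triv, c_trivial B.hx B.chars B.triv]; rfl
  set F1 : ℤ := ∑ ψ ∈ S, w ψ * (charDegree (ψ : G → ℂ) : ℤ) with hF1
  have hFone : F 1 = (F1 : ℂ) := by
    simp only [hF, hF1, charDeg_spec']
    push_cast
    rfl
  -- it vanishes at the elements of even order
  have hvan : ∀ g : G, 2 ∣ orderOf g → F g = 0 := by
    intro g hg
    have h1 : ∑ u ∈ A, ∑ χ ∈ Finset.univ.filter (· ∈ principalBlock M G),
        (χ : G → ℂ) u * conj ((χ : G → ℂ) g) = 0 := Finset.sum_eq_zero fun u hu => by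
      have h2 := weak_orth hM isPBlock_principalBlock (x := u) (y := g) (by
        rw [(Finset.mem_filter.1 hu).2]
        exact fun h => hp2 ((Nat.prime_dvd_prime_iff_eq Nat.prime_two hp.out).1 h).symm) hg
      rw [finsum_mem_block] at h2
      exact h2
    rw [Finset.sum_comm, ← Finset.sum_subset (s₁ := S) (fun ψ hψ => Finset.mem_filter.2
      ⟨Finset.mem_univ _, (Finset.mem_filter.1 hψ).2⟩) (fun ψ hψ hψS => Finset.sum_eq_zero fun u hu => by
        rw [B.chars.vanish ψ (fun h => hψS (Finset.mem_filter.2 ⟨h, (Finset.mem_filter.1 hψ).2⟩)) u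
          (Finset.mem_filter.1 hu).2, zero_mul])] at h1
    have h2 : (A.card : ℂ) * conj (F g) = 0 := by
      simp only [hF, map_sum, map_mul, map_intCast, Finset.mul_sum]
      have h3 : ∀ ψ ∈ S, (A.card : ℂ) * ((w ψ : ℂ) * conj ((ψ : G → ℂ) g)) =
          2 * ∑ u ∈ A, (ψ : G → ℂ) u * conj ((ψ : G → ℂ) g) := fun ψ hψ => by
        rw [← mul_assoc, ← hwA ψ hψ, mul_assoc, Finset.sum_mul]
      refine (Finset.sum_congr rfl h3).trans ?_
      rw [← Finset.mul_sum, h1, mul_zero]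
    simpa [hApos] using h2
  -- divisibility
  have hdvd : (2 : ℤ) ^ b ∣ F1 := by
    haveI : Fact (Nat.Prime 2) := ⟨Nat.prime_two⟩
    obtain ⟨Q⟩ : Nonempty (Sylow 2 G) := inferInstance
    have hQ : Nat.card (Q : Subgroup G) = 2 ^ b := by
      rw [Q.card_eq_multiplicity, hcard, Nat.factorization_mul hp.out.ne_zero (by positivity),
        Nat.factorization_mul (by positivity) (by omega), Finsupp.add_apply, Finsupp.add_apply,
        Nat.factorization_eq_zero_of_not_dvd (fun h => hp2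
          ((Nat.prime_dvd_prime_iff_eq Nat.prime_two hp.out).1 h).symm),
        Nat.factorization_eq_zero_of_not_dvd hdodd, Nat.factorization_pow, Finsupp.smul_apply,
        Nat.prime_two.factorization_self]
      simp
    letI := Fintype.ofFinite (Q : Subgroup G)
    have h1 : ∑ k : (Q : Subgroup G), F k = (F1 : ℂ) := by
      rw [← hFone, Finset.sum_eq_single (1 : (Q : Subgroup G))]
      · simp
      · intro k _ hk
        refine hvan _ ?_
        obtain ⟨j, hj⟩ := IsPGroup.iff_orderOf.1 Q.isPGroup' k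
        rw [Subgroup.orderOf_coe, hj]
        exact dvd_pow_self 2 fun h0 => hk (orderOf_eq_one_iff.1 (by rw [hj, h0, pow_zero]))
      · exact fun h => absurd (Finset.mem_univ _) h
    have h2 : ∀ ψ : IrrCharacter G, ∃ m : ℕ,
        ∑ k : (Q : Subgroup G), (ψ : G → ℂ) k = ((2 ^ b : ℕ) : ℂ) * (m : ℂ) := by
      intro ψ
      obtain ⟨m, hm⟩ := IsChar.classInner_nat (IsChar.res (irr_isChar ψ) (Q : Subgroup G))
        (IsChar.one (G := (Q : Subgroup G)))
      refine ⟨m, ?_⟩
      rw [classInner, inv_mul_eq_iff_eq_mul₀ (Nat.cast_ne_zero.2 Nat.card_pos.ne'), hQ] at hm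
      simpa using hm
    choose m hm using h2
    refine ⟨∑ ψ ∈ S, w ψ * (m ψ : ℤ), ?_⟩
    have h3 : ((F1 : ℤ) : ℂ) = (((2 : ℤ) ^ b * ∑ ψ ∈ S, w ψ * (m ψ : ℤ) : ℤ) : ℂ) := by
      rw [← h1]
      simp only [hF]
      rw [Finset.sum_comm]
      push_cast
      rw [Finset.mul_sum]
      refine Finset.sum_congr rfl fun ψ _ => ?_
      rw [← Finset.mul_sum, hm]
      push_cast
      ring
    exact_mod_cast h3
  -- not zero
  have hne0 : F1 ≠ 0 := by
    intro h0
    rw [hF1, ← Finset.add_sum_erase _ _ htS, hwτ, deg_trivial] at h0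
    have hrest : (d : ℤ) ∣ ∑ ψ ∈ S.erase (trivialIrr G), w ψ * (charDegree (ψ : G → ℂ) : ℤ) := by
      refine Finset.dvd_sum fun ψ hψ => Dvd.dvd.mul_left (Int.natCast_dvd_natCast.2 ?_) _
      obtain ⟨hψne, hψS⟩ := Finset.mem_erase.1 hψ
      obtain ⟨hψXY, hψB⟩ := Finset.mem_filter.1 hψS
      rcases Finset.mem_union.1 hψXY with h | h
      · obtain ⟨a, -, ⟨ha, -⟩ | ⟨ha, -⟩⟩ := X_shape B hcard h hψne
        · exact ha ▸ dvd_mul_left d _
        · exact absurd hψB (pure_not_mem hna hM ha hψne hz hidx)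
      · rw [B.degY ψ h]
    have h2 : (d : ℤ) ∣ 2 := by
      obtain ⟨r, hr⟩ := hrest
      rw [hr] at h0
      exact ⟨-r, by push_cast at h0; linear_combination h0⟩
    have := Int.le_of_dvd two_pos h2
    omega
  refine ⟨F1, hne0, hdvd, ?_, ?_⟩
  · -- the norm
    set Q : ℤ := ∑ ψ ∈ S, w ψ * w ψ with hQ
    have hnorm : ∑ g : G, Complex.normSq (F g) = (Nat.card G : ℝ) * (Q : ℝ) := by
      apply Complex.ofReal_injective
      push_cast
      simp only [← Complex.mul_conj, hF, map_sum, map_mul, map_intCast, Finset.sum_mul_sum]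
      rw [Finset.sum_comm, hQ]
      push_cast
      rw [Finset.mul_sum]
      refine Finset.sum_congr rfl fun ψ hψ => ?_
      rw [Finset.sum_comm, Finset.sum_eq_single ψ]
      · have h1 := classInner_self_irr ψ.2
        rw [classInner, inv_mul_eq_one₀ (Nat.cast_ne_zero.2 Nat.card_pos.ne')] at h1
        rw [Finset.sum_congr rfl (g := fun g => ((w ψ : ℂ) * (w ψ : ℂ)) *
          ((ψ : G → ℂ) g * conj ((ψ : G → ℂ) g))) fun g _ => by ring, ← Finset.mul_sum, ← h1]
        ring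
      · intro θ _ hθ
        have h1 := classInner_irr_ne ψ.2 θ.2 (fun e1 => hθ (Subtype.ext e1).symm)
        rw [classInner, mul_eq_zero] at h1
        have h2 := h1.resolve_left (inv_ne_zero (Nat.cast_ne_zero.2 Nat.card_pos.ne'))
        rw [Finset.sum_congr rfl (g := fun g => ((w ψ : ℂ) * (w θ : ℂ)) *
          ((ψ : G → ℂ) g * conj ((θ : G → ℂ) g))) fun g _ => by ring, ← Finset.mul_sum, h2,
          mul_zero]
      · exact fun h => absurd hψ h
    have hsumA : ∑ g ∈ A, F g = ((A.card : ℝ) * (Q : ℝ) / 2 : ℝ) := by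
      simp only [hF]
      rw [Finset.sum_comm]
      push_cast
      rw [hQ]
      push_cast
      rw [Finset.mul_sum, Finset.sum_div]
      refine Finset.sum_congr rfl fun ψ hψ => ?_
      rw [← Finset.mul_sum]
      have := hwA ψ hψ
      linear_combination (w ψ : ℂ) / 2 * this
    have hQ0 : (0 : ℝ) ≤ (Q : ℝ) := by
      rw [hQ]; push_cast
      exact Finset.sum_nonneg fun ψ _ => mul_self_nonneg _
    have hA1 : (1 : G) ∉ A := fun h => hp.out.one_lt.ne
      (by rw [← (Finset.mem_filter.1 h).2, orderOf_one])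
    have hsplit : Complex.normSq (F 1) + ∑ g ∈ A, Complex.normSq (F g) ≤
        (Nat.card G : ℝ) * (Q : ℝ) := by
      rw [← hnorm, ← Finset.sum_insert (f := fun g => Complex.normSq (F g)) hA1]
      exact Finset.sum_le_sum_of_subset_of_nonneg (Finset.subset_univ _)
        fun g _ _ => Complex.normSq_nonneg _
    have hcs : ((A.card : ℝ) * (Q : ℝ) / 2) ^ 2 ≤
        (A.card : ℝ) * ∑ g ∈ A, Complex.normSq (F g) := by
      have h1 : (A.card : ℝ) * (Q : ℝ) / 2 ≤ ∑ g ∈ A, ‖F g‖ := by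
        have h2 := norm_sum_le A F
        rwa [hsumA, Complex.norm_real, Real.norm_of_nonneg (by positivity)] at h2
      refine (pow_le_pow_left₀ (by positivity) h1 2).trans ?_
      refine (sq_sum_le_card_mul_sum_sq (s := A) (f := fun g => ‖F g‖)).trans_eq ?_
      simp only [Complex.normSq_eq_norm_sq]
    rw [hFone] at hsplit
    rw [show Complex.normSq ((F1 : ℤ) : ℂ) = (F1 : ℝ) * (F1 : ℝ) by
      rw [show ((F1 : ℤ) : ℂ) = (((F1 : ℤ) : ℝ) : ℂ) by push_cast; rfl, Complex.normSq_ofReal]]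
      at hsplit
    have hAp : (A.card : ℝ) * (p : ℝ) = 2 * (Nat.card G : ℝ) := by exact_mod_cast card_A B
    have hpR : (0 : ℝ) < p := Nat.cast_pos.2 hp.out.pos
    have hAR : (0 : ℝ) < A.card := Nat.cast_pos.2 (Nat.pos_of_ne_zero fun h0 => hApos (by
      rw [h0, Nat.cast_zero]))
    have hsumle : (A.card : ℝ) * (Q : ℝ) ^ 2 / 4 ≤ ∑ g ∈ A, Complex.normSq (F g) := by
      refine le_of_mul_le_mul_left ?_ hAR
      linarith [show (A.card : ℝ) * ((A.card : ℝ) * (Q : ℝ) ^ 2 / 4) =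
        ((A.card : ℝ) * (Q : ℝ) / 2) ^ 2 by ring]
    have hfin : 2 * ((F1 : ℝ) * (F1 : ℝ)) ≤ (Nat.card G : ℝ) * (p : ℝ) := by
      refine le_of_mul_le_mul_left ?_ hpR
      nlinarith [mul_nonneg (Nat.cast_nonneg (α := ℝ) (Nat.card G)) (sq_nonneg ((Q : ℝ) - p))]
    exact_mod_cast hfin
  · -- the trivial bound
    set f : IrrCharacter G → ℤ := fun ψ => |w ψ * (charDegree (ψ : G → ℂ) : ℤ)| with hf
    have hX' : ∀ ψ ∈ X, f ψ = 2 * (charDegree (ψ : G → ℂ) : ℤ) := fun ψ h => by
      simp only [hf, hw, weight_X h, abs_mul]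
      rcases B.chars.c_sign ψ h with e1 | e1 <;> simp [e1]
    have hY' : ∀ ψ ∈ Y, f ψ = (d : ℤ) := fun ψ h => by
      simp only [hf, hw, weight_Y B h, abs_mul, B.degY ψ h]
      rcases B.chars.ε_sign with e1 | e1 <;> simp [e1]
    have hYc : (Y.card : ℤ) = 2 := by
      have h1 := B.chars.card_Y
      rw [show p - 1 = 2 * SCP.e x by omega] at h1
      exact_mod_cast Nat.eq_of_mul_eq_mul_right (by omega) h1
    calc |F1| ≤ ∑ ψ ∈ S, f ψ := Finset.abs_sum_le_sum_abs _ _
      _ ≤ ∑ ψ ∈ X ∪ Y, f ψ := Finset.sum_le_sum_of_subset_of_nonneg (Finset.filter_subset _ _)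
          fun ψ _ _ => abs_nonneg _
      _ = _ := by
        rw [Finset.sum_union B.chars.disj, Finset.sum_congr rfl hX', Finset.sum_congr rfl hY',
          ← Finset.mul_sum, ← Finset.add_sum_erase _ _ B.triv, deg_trivial, Finset.sum_const,
          nsmul_eq_mul, hYc]
        push_cast
        ring

/-- In the case `p = 2 ^ n - 1`, `b = 2 n`, all constant members have degree at most `2 ^ n`. -/
theorem deg_le (B : Blk p n d x X Y c ε) (hpn : p + 1 = 2 ^ n)
    (hcard : Nat.card G = p * (2 ^ (2 * n) * d)) {χ : IrrCharacter G} (hχ : χ ∈ X)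
    (hne : χ ≠ trivialIrr G) : charDegree (χ : G → ℂ) ≤ 2 ^ n := by
  obtain ⟨hn2, hd3, hdodd, hep, hdp, -, hp2⟩ := isAB_facts B.ab
  have hde : 2 * d + 1 = p := by
    rcases B.ab with ⟨-, -, -, he⟩ | ⟨-, hp1, -, -⟩
    · rw [← he]; exact hep
    · omega
  have hsq := Few.deg_sq_lt hne
  rw [hcard] at hsq
  obtain ⟨a, ha, ⟨hdeg, hmod⟩ | ⟨hdeg, hmod⟩⟩ := X_shape B hcard hχ hne
  · have ha1 : a = 1 := by
      by_contra h0
      have han : n + 1 ≤ a := by
        have := Nat.le_of_dvd (by omega) (Nat.dvd_of_mod_eq_zero hmod)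
        omega
      have h1 : 2 ^ (n + 1) * d ≤ charDegree (χ : G → ℂ) :=
        hdeg ▸ Nat.mul_le_mul_right d (Nat.pow_le_pow_right two_pos han)
      have h2 := Nat.mul_le_mul h1 h1
      have h4 := h2.trans_lt hsq
      rw [show 2 ^ (n + 1) * d * (2 ^ (n + 1) * d) = (4 * d) * (2 ^ (2 * n) * d) by ring] at h4
      have := Nat.lt_of_mul_lt_mul_right h4
      omega
    rw [hdeg, ha1, pow_one]
    omega
  · have han : a % n = 0 := by
      rw [show a = a - 1 + 1 by omega, Nat.add_mod, hmod, Nat.mod_eq_of_lt (show 1 < n by omega),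
        show n - 1 + 1 = n by omega, Nat.mod_self]
    have ha2 : a < 2 * n := by
      by_contra h0
      have h1 : 2 ^ (2 * n) ≤ charDegree (χ : G → ℂ) :=
        hdeg ▸ Nat.pow_le_pow_right two_pos (by omega)
      have h2 := (Nat.mul_le_mul h1 h1).trans_lt hsq
      have h4 : p * (2 ^ (2 * n) * d) ≤ 2 ^ (2 * n) * 2 ^ (2 * n) := by
        calc p * (2 ^ (2 * n) * d) ≤ 2 ^ n * (2 ^ (2 * n) * 2 ^ n) :=
              Nat.mul_le_mul (by omega) (Nat.mul_le_mul le_rfl (by omega))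
          _ = _ := by ring
      omega
    obtain ⟨r, rfl⟩ := Nat.dvd_of_mod_eq_zero han
    have hr : r < 2 := by
      by_contra h0
      have := Nat.mul_le_mul_left n (show 2 ≤ r by omega)
      omega
    have hr1 : r = 1 := by
      interval_cases r
      · omega
      · rfl
    rw [hdeg, hr1, mul_one]

/-- The power of two. -/
theorem b_eq (B : Blk p n d x X Y c ε) (hna : ¬ IsMulCommutative G) {b : ℕ}
    (hcard : Nat.card G = p * (2 ^ b * d)) : b = n := by
  classical
  obtain ⟨hn2, hd3, hdodd, hep, hdp, hlt, hp2⟩ := isAB_facts B.ab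
  obtain ⟨hb1, hb⟩ := exponent B hna hcard
  obtain ⟨F1, hne, hdvd, hbound, hsmall⟩ := exists_F B hna hb1 hcard
  have hge : (2 : ℤ) ^ b ≤ |F1| := Int.le_of_dvd (abs_pos.2 hne) ((dvd_abs _ _).2 hdvd)
  have hmain : 2 * (2 ^ b * 2 ^ b) ≤ Nat.card G * p := by
    have h1 : (2 : ℤ) ^ b * 2 ^ b ≤ F1 * F1 := by
      rw [← abs_mul_abs_self F1]
      exact mul_le_mul hge hge (by positivity) (abs_nonneg _)
    have h2 : ((2 * (2 ^ b * 2 ^ b) : ℕ) : ℤ) ≤ ((Nat.card G * p : ℕ) : ℤ) := by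
      push_cast; linarith
    exact_mod_cast h2
  rw [hcard, show p * (2 ^ b * d) * p = 2 ^ b * (p * p * d) by ring,
    show 2 * (2 ^ b * 2 ^ b) = 2 ^ b * (2 * 2 ^ b) by ring] at hmain
  have hmain := Nat.le_of_mul_le_mul_left hmain (Nat.two_pow_pos b)
  have h4 : 4 ≤ 2 ^ n := (Nat.pow_le_pow_right two_pos hn2)
  have hkey : ∀ (hb3 : 3 * n ≤ b), 2 * (2 ^ n * 2 ^ n * 2 ^ n) ≤ p * p * d := fun hb3 => by
    refine le_trans (Nat.mul_le_mul_left 2 ?_) hmain
    rw [← pow_add, ← pow_add]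
    exact Nat.pow_le_pow_right two_pos (by omega)
  rcases hb with ⟨hpn, k, hk⟩ | ⟨hpn, hn3, k, hk⟩
  · rcases Nat.eq_zero_or_pos k with rfl | hk0
    · simpa using hk
    exfalso
    have h3 : 3 * n ≤ b := by
      have := Nat.mul_le_mul_left (2 * n) hk0
      omega
    have hdle : d ≤ 2 ^ n := by
      rcases B.ab with ⟨-, h1, -, -⟩ | ⟨-, -, h1, -⟩
      · omega
      · rw [h1, show 2 ^ n = 2 * 2 ^ (n - 1) by rw [← pow_succ']; congr 1; omega]
        have := Nat.one_le_two_pow (n := n - 1)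
        omega
    have h2d : 2 * d = 2 ^ n + 2 := by
      rcases B.ab with ⟨-, h1, -, -⟩ | ⟨-, -, h1, -⟩
      · omega
      · rw [h1, show 2 ^ n = 2 * 2 ^ (n - 1) by rw [← pow_succ']; congr 1; omega]
        ring
    have := hkey h3
    rw [hpn] at this
    obtain ⟨P, hP⟩ : ∃ P, P = 2 ^ n := ⟨_, rfl⟩
    rw [← hP] at this h4 h2d
    nlinarith
  · rcases Nat.lt_trichotomy k 1 with hk1 | rfl | hk1
    · obtain rfl : k = 0 := by omega
      simpa using hk
    · exfalso
      obtain rfl : b = 2 * n := by rw [hk]; ring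
      have h1 : ∑ χ ∈ X.erase (trivialIrr G), (charDegree (χ : G → ℂ) : ℤ) ≤
          ((SCP.e x - 1 : ℕ) : ℤ) * 2 ^ n := by
        refine (Finset.sum_le_card_nsmul _ _ ((2 : ℤ) ^ n) fun χ hχ => ?_).trans_eq ?_
        · exact_mod_cast deg_le B hpn hcard (Finset.mem_of_mem_erase hχ) (Finset.ne_of_mem_erase hχ)
        · rw [Finset.card_erase_of_mem B.triv, B.chars.card_X, nsmul_eq_mul]
      have hde : SCP.e x = d := by
        rcases B.ab with ⟨-, -, -, he⟩ | ⟨-, hp1, -, -⟩
        · exact he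
        · omega
      rw [hde, Nat.cast_sub (by omega)] at h1
      push_cast at h1
      have hP : ((2 : ℤ) ^ n) = 2 * (d : ℤ) + 2 := by
        have h2 : 2 ^ n = 2 * d + 2 := by omega
        exact_mod_cast h2
      have h5 := hge.trans hsmall
      rw [two_mul n, pow_add] at h5
      rw [hP] at h5 h1
      have h6 : (3 : ℤ) ≤ d := by exact_mod_cast hd3
      nlinarith
    · exfalso
      have h3 : 3 * n ≤ b := by
        have := Nat.mul_le_mul_left n (show 3 ≤ k + 1 by omega)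
        omega
      have hkey' := hkey h3
      obtain ⟨P, hP⟩ : ∃ P, P = 2 ^ n := ⟨_, rfl⟩
      rw [← hP] at hkey' hpn h4
      have hpP : p ≤ P := by omega
      have hdP : d < P := by omega
      have h7 := Nat.mul_le_mul (Nat.mul_le_mul hpP hpP) hdP.le
      have : 0 < P * P * P := by positivity
      omega

end

end Cfsg.Agent.Block.BTuan
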