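import Mathlib
import Cfsg.Agent.Lib.Block.BrauerTuan.Bound
import Cfsg.Agent.Lib.Block.Cube.Main
import Cfsg.Agent.Lib.Block.PMinusOne.Main
import Cfsg.Agent.Lib.Fus.PSLTwo

/-!
The theorem of Brauer and Tuan on simple groups of order `p q^b g₀` with `g₀ < p - 1`.
-/

set_option autoImplicit false
set_option linter.unusedSectionVars false

namespace Cfsg.Agent.Block.BTuan

open scoped ComplexConjugate
open Cfsg Cfsg.Agent.Block Cfsg.Agent.Char

universe u

variable {G : Type u} [Group G] [Fintype G] [IsSimpleGroup G] {p : ℕ} [hp : Fact p.Prime]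

/-- The orders of the groups. -/
theorem shape (hna : ¬ IsMulCommutative G) {q b g₀ : ℕ} (hq : q.Prime) (hpq : p ≠ q)
    (hG : Nat.card G = p * q ^ b * g₀) (hg : g₀ < p - 1) :
    q = 2 ∧ ∃ n : ℕ, 2 ≤ n ∧ Nat.card G = p * (2 ^ n * g₀) ∧
      ((∃ x : G, SCP.Hyp p x ∧ IsAB p n g₀ (SCP.e x)) ∨ (3 ≤ n ∧ p = 2 ^ n + 1 ∧ g₀ + 2 = p)) := by
  classical
  obtain ⟨hq2, x, hcase⟩ := cases_split hna hq hpq hG hg
  subst hq2
  refine ⟨rfl, ?_⟩
  have hcard : Nat.card G = p * (2 ^ b * g₀) := by rw [hG, mul_assoc]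
  rcases hcase with ⟨n, X, Y, c, ε, B⟩ | ⟨hx, he, hp7, hg2, χ, hχ, hχd⟩
  · have hbn := b_eq B hna hcard
    exact ⟨n, (isAB_facts B.ab).1, by rw [← hbn]; exact hcard, Or.inl ⟨x, B.hx, B.ab⟩⟩
  · obtain ⟨m, F, iF, iFf, hF, hpm, ⟨φ⟩⟩ := PMinusOne.main hp7 hx he χ hχd
      (fun g hg' => OrdP.eq_one_of_value hχ hg')
    have hm3 : 3 ≤ m := by
      by_contra hlt
      have := Nat.pow_le_pow_right (show 0 < 2 by norm_num) (show m ≤ 2 by omega)
      omega
    refine ⟨m, by omega, ?_, Or.inr ⟨hm3, hpm, hg2⟩⟩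
    rw [Nat.card_congr φ.toEquiv, Fus.PSLTwo.natCard_SL_two, hF,
      show 2 ^ m - 1 = g₀ by omega, ← hpm]
    ring

/-- The order is below `p ^ 3`, and `p` is next to a power of two. -/
theorem order_lt (hna : ¬ IsMulCommutative G) {q b g₀ : ℕ} (hq : q.Prime) (hpq : p ≠ q)
    (hG : Nat.card G = p * q ^ b * g₀) (hg : g₀ < p - 1) :
    Nat.card G < p ^ 3 ∧ ∃ n : ℕ, p = 2 ^ n + 1 ∨ p = 2 ^ n - 1 := by
  obtain ⟨-, n, hn2, hcard, hcase⟩ := shape hna hq hpq hG hg
  have h4 : 4 ≤ 2 ^ n := Nat.pow_le_pow_right two_pos hn2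
  have hp3 : p ^ 3 = p * (p * p) := by ring
  rcases hcase with ⟨x, -, ⟨hn3, hp1, -, -⟩ | ⟨-, hp1, -, -⟩⟩ | ⟨-, hp1, -⟩
  · refine ⟨?_, n, Or.inr (by omega)⟩
    rw [hcard, hp3]
    refine Nat.mul_lt_mul_of_pos_left ?_ hp.out.pos
    rw [← hp1]
    have hle : g₀ + 2 ≤ p := by omega
    nlinarith
  · refine ⟨?_, n, Or.inl hp1⟩
    rw [hcard, hp3]
    refine Nat.mul_lt_mul_of_pos_left ?_ hp.out.pos
    exact Nat.mul_lt_mul'' (by omega) (by omega)
  · refine ⟨?_, n, Or.inl hp1⟩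
    rw [hcard, hp3]
    refine Nat.mul_lt_mul_of_pos_left ?_ hp.out.pos
    exact Nat.mul_lt_mul'' (by omega) (by omega)

/-- The theorem. -/
theorem main (hG' : ¬ IsCyclic G) {q b g₀ : ℕ} (hq : q.Prime) (hpq : p ≠ q)
    (hG : Nat.card G = p * q ^ b * g₀) (hg : g₀ < p - 1) :
    (∃ (m : ℕ) (F : Type) (_ : Field F) (_ : Fintype F), Fintype.card F = p ∧
      (p = 2 ^ m + 1 ∨ p = 2 ^ m - 1) ∧
      Nonempty (G ≃* Matrix.ProjectiveSpecialLinearGroup (Fin 2) F)) ∨
    (∃ (m : ℕ) (F : Type) (_ : Field F) (_ : Fintype F), Fintype.card F = 2 ^ m ∧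
      p = 2 ^ m + 1 ∧ 3 < p ∧ Nonempty (G ≃* Matrix.ProjectiveSpecialLinearGroup (Fin 2) F)) := by
  have hna := Cube.not_comm hG'
  obtain ⟨hlt, n, hn⟩ := order_lt hna hq hpq hG hg
  rcases Cube.main hG' (dvd_mul_of_dvd_left (dvd_mul_right p (q ^ b)) g₀ |> fun h => hG ▸ h) hlt with
    ⟨F, iF, iFf, hF, -, hiso⟩ | h
  · exact Or.inl ⟨n, F, iF, iFf, hF, hn, hiso⟩
  · exact Or.inr h

theorem three_dvd_pred {n : ℕ} (h : Even n) : 3 ∣ 2 ^ n - 1 := by
  obtain ⟨k, rfl⟩ := h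
  rw [← two_mul, pow_mul]
  simpa using Nat.sub_dvd_pow_sub_pow 4 1 k

theorem three_dvd_succ {n : ℕ} (h : Odd n) : 3 ∣ 2 ^ n + 1 := by
  obtain ⟨k, rfl⟩ := h
  have h1 := three_dvd_pred (n := 2 * k) (even_two_mul k)
  rw [pow_succ]
  have := Nat.one_le_two_pow (n := 2 * k)
  omega

theorem eq_three {m : ℕ} (hm : m.Prime) (h : 3 ∣ m) : m = 3 :=
  ((Nat.prime_dvd_prime_iff_eq Nat.prime_three hm).1 h).symm

/-- With a prime cofactor, `p` is five or seven and the group is `PSL(2, p)`. -/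
theorem main_prime (hG' : ¬ IsCyclic G) {q b r : ℕ} (hq : q.Prime) (hr : r.Prime) (hpq : p ≠ q)
    (hG : Nat.card G = p * q ^ b * r) (hrp : r < p - 1) :
    (p = 5 ∨ p = 7) ∧ ∃ (F : Type) (_ : Field F) (_ : Fintype F), Fintype.card F = p ∧
      Nonempty (G ≃* Matrix.ProjectiveSpecialLinearGroup (Fin 2) F) := by
  classical
  have hna := Cube.not_comm hG'
  obtain ⟨-, n, hn2, hcard, hcase⟩ := shape hna hq hpq hG hrp
  rcases hcase with ⟨x, hx, hab⟩ | ⟨hn3, hp1, hg2⟩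
  swap
  · exfalso
    have h8 := Nat.pow_le_pow_right (show 0 < 2 by norm_num) hn3
    rcases Nat.even_or_odd n with he | ho
    · have := eq_three hr ((show 2 ^ n - 1 = r by omega) ▸ three_dvd_pred he)
      omega
    · have := eq_three hp.out (hp1 ▸ three_dvd_succ ho)
      omega
  obtain ⟨Q, hQ⟩ := SCP.exists_sylow hx
  have hN : Nat.card (Subgroup.normalizer ((Q : Subgroup G) : Set G)) = p * SCP.e x := by
    rw [hQ]
    exact SCP.card_N hx
  have hn1 : Nat.card (Sylow p G) * (p * SCP.e x) = p * (2 ^ n * r) := by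
    rw [← hcard, ← Subgroup.card_mul_index (Subgroup.normalizer ((Q : Subgroup G) : Set G)), hN,
      mul_comm, Q.card_eq_index_normalizer]
    rfl
  have h2n : 2 * 2 ^ (n - 1) = 2 ^ n := by rw [← pow_succ']; congr 1; omega
  rcases hab with ⟨hn3, hp1, hd1, he⟩ | ⟨-, hp1, hd1, he⟩
  · have hn3' : n = 3 := by
      rcases Nat.even_or_odd n with he' | ho
      · have h8 := Nat.pow_le_pow_right (show 0 < 2 by norm_num) hn3
        have := eq_three hp.out ((show 2 ^ n - 1 = p by omega) ▸ three_dvd_pred he')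
        omega
      · have hev : Even (n - 1) := Nat.Odd.sub_odd ho odd_one
        have h3 := eq_three hr ((show 2 ^ (n - 1) - 1 = r by omega) ▸ three_dvd_pred hev)
        have h1 : 2 ^ (n - 1) = 2 ^ 2 := by omega
        have := Nat.pow_right_injective le_rfl h1
        omega
    subst hn3'
    norm_num at hp1 hd1
    obtain rfl : p = 7 := by omega
    obtain rfl : r = 3 := by omega
    rw [he] at hN hn1
    have hS : Nat.card (Sylow 7 G) = 7 + 1 := by norm_num at hn1 ⊢; omega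
    obtain ⟨F, iF, iFf, hF, -, hiso⟩ := Cube.iso_psl_p hna (by norm_num) Q hS (d := 3) (by norm_num)
      (by rw [hcard]; norm_num) hN (by rw [hcard]; norm_num)
    exact ⟨Or.inr rfl, F, iF, iFf, hF, hiso⟩
  · have hn2' : n = 2 := by
      by_contra hne
      rcases Nat.even_or_odd n with he' | ho
      · have hodd : Odd (n - 1) := Nat.Even.sub_odd (by omega) he' odd_one
        have h3 := eq_three hr (hd1 ▸ three_dvd_succ hodd)
        have h1 : 2 ^ (n - 1) = 2 ^ 1 := by omega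
        have := Nat.pow_right_injective le_rfl h1
        omega
      · have h8 := Nat.pow_le_pow_right (show 0 < 2 by norm_num) (show 3 ≤ n by omega)
        have := eq_three hp.out (hp1 ▸ three_dvd_succ ho)
        omega
    subst hn2'
    norm_num at hp1 hd1 he
    obtain rfl : p = 5 := hp1
    obtain rfl : r = 3 := hd1
    rw [he] at hN hn1
    have hS : Nat.card (Sylow 5 G) = 5 + 1 := by norm_num at hn1 ⊢; omega
    obtain ⟨F, iF, iFf, hF, -, hiso⟩ := Cube.iso_psl_p hna (by norm_num) Q hS (d := 2) (by norm_num)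
      (by rw [hcard]; norm_num) hN (by rw [hcard]; norm_num)
    exact ⟨Or.inl rfl, F, iF, iFf, hF, hiso⟩

end Cfsg.Agent.Block.BTuan
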